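import Groth.Agent.VBPn.K126.Gap2
import Groth.Agent.VBPn.K699.RankOO
import Groth.Agent.Krr.H487.ExtPull
import Groth.Agent.Krr.H495.Rank
import Groth.Agent.Dual.H366.ExtQCoh
import Groth.Agent.S1697
import Groth.Agent.PerfC.PullRestrict

/-!
# The determinant of a rank-two bundle from its restriction to a line

* `det_line`: if `N ≅ O(a₀) ⊕ O(a₁)` has a wedge pairing with values in `O(c)` then `a₀ + a₁ = c`.
* `exists_det`: a rank-two bundle on `P^n` has a wedge pairing with values in some `O(c)`.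
* `det_restrict`: pullback of the wedge pairing.
-/

set_option autoImplicit false
universe u

open CategoryTheory CategoryTheory.Limits AlgebraicGeometry Opposite TopologicalSpace MvPolynomial

namespace K126.DetLine

open K697.Lin K697.LinSeq K698.Pl K698.ThmA K698.Val K698.Wedge Groth.Agent Groth.Agent.Sga67.Sec
open Groth.Agent.Sga67.LocBasis Groth.Agent.VarietyB.TwistMul K699.TwHom

attribute [local instance] CategoryTheory.Limits.HasFiniteBiproducts.of_hasFiniteProducts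

variable {k : Type u} [Field k] {n : ℕ}

/-- A form without zeros is a constant. -/
theorem degree_eq_zero (hn : 1 ≤ n) {d : ℕ} (q : CohB1.polyGrading n k d)
    (hq : ∀ x : ProjectiveSpectrum (CohB1.polyGrading n k), q.1 ∉ x.asHomogeneousIdeal) : d = 0 := by
  have key : ∀ j : Fin (n + 1), ∃ M : ℕ, q.1 ∣ X j ^ M := by
    intro j
    obtain ⟨M, hM⟩ := K126.Gap2.exists_pow_mem (ι := Unit) (fun _ => q) (fun x => ⟨(), hq x⟩) j
    refine ⟨M, ?_⟩
    rw [← Ideal.mem_span_singleton]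
    simpa using hM
  obtain ⟨M0, h0⟩ := key ⟨0, by omega⟩
  obtain ⟨M1, h1⟩ := key ⟨1, by omega⟩
  obtain ⟨i, -, hi⟩ := (dvd_prime_pow (MvPolynomial.X_prime) M0).mp h0
  have hi0 : i = 0 := by
    by_contra hne
    have h2 : (X ⟨0, by omega⟩ : MvPolynomial (Fin (n + 1)) k) ∣ X ⟨1, by omega⟩ ^ M1 :=
      ((dvd_pow_self _ hne).trans hi.symm.dvd).trans h1
    have h3 := MvPolynomial.X_prime.dvd_of_dvd_pow h2
    rw [MvPolynomial.X_dvd_X] at h3
    simp at h3
  rw [hi0, pow_zero] at hi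
  have hu : IsUnit q.1 := associated_one_iff_isUnit.mp hi
  have hne : q.1 ≠ 0 := hu.ne_zero
  obtain ⟨r, hr, hrq⟩ := MvPolynomial.isUnit_iff_eq_C_of_isReduced.mp hu
  have h4 : (q.1).IsHomogeneous 0 := by
    rw [hrq]
    exact isHomogeneous_C _ _
  exact MvPolynomial.IsHomogeneous.inj_right q.2 h4 hne

/-- Local bases of `∐ O(a j)`. -/
theorem isLocBasis_pw {N : (PP n k).Modules} {ι : Type} [Fintype ι] [DecidableEq ι] {a : ι → ℤ}
    (e : (⨁ fun j => OO n k (a j)) ≅ N) (f : gr n k 1) (V : (PP n k).Opens)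
    (hV : ∀ x ∈ V, f.1 ∉ (x : Pt n k).asHomogeneousIdeal) :
    IsLocBasis (M := N) (fun j => appS (biproduct.ι (fun j => OO n k (a j)) j ≫ e.hom) V (pw f (a j) V hV)) := by
  have h1 : IsLocBasis (M := ⨁ fun j => OO n k (a j))
      (fun j => appS (biproduct.ι (fun j => OO n k (a j)) j) V (pw f (a j) V hV)) := by
    intro W hW
    have h2 := K699.RankOO.bijective_comb (fun j => OO n k (a j)) W
      (fun j => res (OO n k (a j)) hW (pw f (a j) V hV)) (fun j => by
        have h3 := Ega2.TwistBasic.bijective_smul_fracSec (𝒜 := gr n k) (a j) (Ega2.TwistInv.powOne f (a j).toNat)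
          (Ega2.TwistInv.powOne f (-(a j)).toNat) (by omega) W
          (fun x hx => Ega2.TwistInv.powOne_notMem (hV x (hW hx)) _)
          (fun x hx => Ega2.TwistInv.powOne_notMem (hV x (hW hx)) _)
        exact h3)
    convert h2 using 1
    funext c
    rw [comb_apply]
    refine Finset.sum_congr rfl fun j _ => ?_
    rw [appS_res]
  exact h1.of_iso e

/-- The determinant of `O(a₀) ⊕ O(a₁)`. -/
theorem det_line (hn : 1 ≤ n) {N : (PP n k).Modules} {a : Fin 2 → ℤ} (e : N ≅ ∐ fun j => OO n k (a j)) {c : ℤ}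
    {f : CohB1.tensorMod N N ⟶ OO n k c} (hf : IsWedge f) : a 0 + a 1 = c := by
  let e' : (⨁ fun j => OO n k (a j)) ≅ N := biproduct.isoCoproduct _ ≪≫ e.symm
  let ι : ∀ j, OO n k (a j) ⟶ N := fun j => biproduct.ι (fun j => OO n k (a j)) j ≫ e'.hom
  obtain ⟨g, hg⟩ := exists_wdg f (show a 0 + (c - a 0) = c by ring) (ι 0)
  have key : ∀ x : Pt n k, ∃ (W : (PP n k).Opens) (hx : x ∈ W) (t : Sec (OO n k (a 1)) W),
      IsUnit (val (appS (ι 1 ≫ g) W t) x hx) ∧ IsUnit (val t x hx) := by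
    intro x
    obtain ⟨l, W, hxW, hW⟩ := exists_chart x
    have h1 := hf.basis W _ (isLocBasis_pw e' l W hW)
    have h2 := isUnit_val_of_basis h1 x hxW
    have h3 := hg W (pw l (a 0) W hW) (appS (ι 1) W (pw l (a 1) W hW)) x hxW
    refine ⟨W, hxW, pw l (a 1) W hW, ?_, isUnit_val_pw l _ hW x hxW⟩
    have h4 : IsUnit (val (pw l (a 0) W hW) x hxW * val (appS g W (appS (ι 1) W (pw l (a 1) W hW))) x hxW) := by
      rw [← h3]; exact h2
    exact isUnit_of_mul_isUnit_right h4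
  rcases lt_or_ge (c - a 0) (a 1) with hlt | hge
  · exfalso
    have h1 := hom_eq_zero_of_lt hn hlt (ι 1 ≫ g)
    obtain ⟨x⟩ := nonempty_Pt (n := n) (k := k)
    obtain ⟨W, hx, t, ht, -⟩ := key x
    rw [h1] at ht
    have := isDomain_Loc x
    exact ht.ne_zero rfl
  · obtain ⟨d, hd⟩ : ∃ d : ℕ, a 1 + d = c - a 0 := ⟨(c - a 0 - a 1).toNat, by omega⟩
    obtain ⟨q, hq⟩ := exists_mulMap hd (ι 1 ≫ g)
    have h1 := degree_eq_zero hn q (fun x hx => by
      obtain ⟨W, hxW, t, ht, -⟩ := key x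
      rw [hq, val_mulMap] at ht
      have h2 : IsUnit (al x q.1) := isUnit_of_mul_isUnit_left ht
      have h3 := (IsLocalization.AtPrime.to_map_mem_maximal_iff (Twist.Loc (gr n k) x)
        x.asHomogeneousIdeal.toIdeal q.1).mpr hx
      exact (IsLocalRing.mem_maximalIdeal _).mp h3 h2)
    omega

/-- A rank-two bundle on `P^n` has a wedge pairing with values in some `O(c)`. -/
theorem exists_det {E : (CohB1.ProjSpace n k).Modules} (hE : FlatMod.IsFinLocFreeOfRank 2 E) :
    ∃ c : ℤ, ExtPow.IsExtPow 2 E (Twist.twistProjSpace n k c) := by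
  have hEf := Krr.H495.Rank.isFinLocFree_of_rank hE
  obtain ⟨L, hL⟩ := Dual.H366.ExtQCoh.exists_isExtPow 2 (Ega2.QCohLocal.isQCoh_of_isFinLocFree hEf)
  have hL1 := Krr.H495.Rank.rank_extPow hE hL
  obtain ⟨c, ⟨e⟩⟩ := S1697.result k n L (Ega2.QCohLocal.isFinLocFreeOfRank_one_iff.mp hL1)
  exact ⟨c, Krr.H487.ExtPull.isExtPow_of_iso hL e⟩

variable {m : ℕ} {A : (Fin (n + 1) → k) →ₗ[k] (Fin (m + 1) → k)} (hA : Function.Surjective A)

/-- The wedge pairing of the restriction. -/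
theorem exists_wedge_restrict {E : (CohB1.ProjSpace n k).Modules} (hE : FlatMod.IsFinLocFreeOfRank 2 E) {c : ℤ}
    (hL : ExtPow.IsExtPow 2 E (Twist.twistProjSpace n k c)) :
    ∃ f : CohB1.tensorMod (restE A hA E) (restE A hA E) ⟶ Twist.twistProjSpace m k c, IsWedge f := by
  have hEf := Krr.H495.Rank.isFinLocFree_of_rank hE
  have hEf' : FlatMod.IsFinLocFree (restE A hA E) := PerfC.PullRestrict.isFinLocFree_pullback _ hEf
  obtain ⟨L, hL'⟩ := Dual.H366.ExtQCoh.exists_isExtPow 2 (Ega2.QCohLocal.isQCoh_of_isFinLocFree hEf')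
  obtain ⟨e⟩ := Krr.H487.ExtPull.nonempty_pullback_iso (emb A hA) hEf hL hL'
  exact exists_wedge (Krr.H487.ExtPull.isExtPow_of_iso hL' (e.symm ≪≫ pullTw A hA c))

theorem det_restrict (hm : 1 ≤ m) {E : (CohB1.ProjSpace n k).Modules} (hE : FlatMod.IsFinLocFreeOfRank 2 E) {c : ℤ}
    (hL : ExtPow.IsExtPow 2 E (Twist.twistProjSpace n k c)) {a : Fin 2 → ℤ}
    (e : restE A hA E ≅ ∐ fun j => Twist.twistProjSpace m k (a j)) : a 0 + a 1 = c := by
  obtain ⟨f, hf⟩ := exists_wedge_restrict hA hE hL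
  exact det_line hm e hf

end K126.DetLine
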