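import Groth.Agent.VBPn.K126.Ext1
import Groth.Agent.VBPn.K126.DetLine

/-!
# Van de Ven's theorem: uniform rank-two bundles on the plane
-/

set_option autoImplicit false
universe u

open CategoryTheory CategoryTheory.Limits AlgebraicGeometry Opposite TopologicalSpace

namespace K126.VDV

open K697 K697.Lin K697.LinSeq Groth.Agent Groth.Agent.VarietyB
open K126.Restr K126.Uniform K126.Gap1 K126.Ext1 K126.DetLine Groth.Agent.PerfB.TwistDer

attribute [local instance] CategoryTheory.Limits.HasFiniteBiproducts.of_hasFiniteProducts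

variable {k : Type u} [Field k] {n : ℕ}

theorem not_isZero_O (n : ℕ) (d : ℤ) : ¬ IsZero (Twist.twistProjSpace n k d) := by
  intro hz
  have h2 := Fga.HShift.subsingleton_of_isZero ((twM n k (-d)).map_isZero hz) 0
  have h3 := (h0_twO (k := k) (n := n) d (-d) 0 (by ring)).trans (finrank_O_zero n)
  have h4 : Module.finrank k (Coh.HH (CohB1.ProjSpace n k)
    ((twM n k (-d)).obj (Twist.twistProjSpace n k d)) 0) = 0 := Module.finrank_zero_of_subsingleton
  omega

theorem inc_ne_zero {N : (CohB1.ProjSpace n k).Modules} {a : Fin 2 → ℤ}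
    (e : N ≅ ∐ fun j => Twist.twistProjSpace n k (a j)) (j : Fin 2) : inc e j ≠ 0 := by
  intro h
  apply not_isZero_O (k := k) n (a j)
  rw [IsZero.iff_id_eq_zero]
  have h1 : inc e j ≫ pr e j = 𝟙 (Twist.twistProjSpace n k (a j)) := by
    simp [inc, pr]
  rw [← h1, h, zero_comp]

/-- **Van de Ven's theorem.** -/
theorem main [IsAlgClosed k] [CharZero k] {E : (CohB1.ProjSpace 2 k).Modules}
    (hE : FlatMod.IsFinLocFreeOfRank 2 E) {a : Fin 2 → ℤ} (h : Unif E a)
    (hns : ¬ ∃ b : Fin 2 → ℤ, Nonempty (E ≅ ∐ fun j : Fin 2 => Twist.twistProjSpace 2 k (b j))) :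
    ∃ b : ℤ, Nonempty (E ≅ CohB1.tensorMod (Omega.sheaf (CohB1.ProjSpace.toSpec 2 k))
      (Twist.twistProjSpace 2 k b)) := by
  have hns' : ¬ Nonempty (E ≅ ∐ fun j => Twist.twistProjSpace 2 k (a j)) := fun h' => hns ⟨a, h'⟩
  have hlt : a 1 < a 0 := by
    rcases h.le.lt_or_eq with hlt | heq
    · exact hlt
    · exact absurd (h.split_of_eq heq.symm) hns'
  have h0 : Subsingleton (Coh.HH (CohB1.ProjSpace 2 k) (LinSeq.tw E (-(a 0))) 0) := by
    by_contra hcon
    exact hns' (h.split_of_section hcon)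
  have h1 : a 0 = a 1 + 1 := by
    by_contra hne
    obtain ⟨c, hc⟩ := exists_det hE
    obtain ⟨f, hf⟩ := K698.Wedge.exists_wedge hc
    have hdet : a 0 + a 1 = c := by
      obtain ⟨A, hA, -⟩ := exists_hyp (k := k) _ e0_ne
      obtain ⟨e⟩ := h.spl A hA
      exact det_restrict hA le_rfl hE hc e
    obtain ⟨v, hv⟩ := Gap2.exists_section (n := 1) le_rfl hE hf (a 0) (by omega) (fun A hA => by
      obtain ⟨e⟩ := h.spl A hA
      exact ⟨inc e 0, inc_ne_zero e 0⟩)
    exact hv ((K698.H0.hh0_iff 2 k (a 0) E).mp h0 v)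
  exact ⟨a 0 + 1, iso_omega h hE h1 h0⟩

end K126.VDV
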