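import Groth.Agent.VBPn.K126.Gap1
import Groth.Agent.VBPn.K697.ExtTw
import Groth.Agent.VBPn.K699.Euler
import Groth.Agent.VBPn.K699.RankOO
import Groth.Agent.Krr.H495.Rank
import Groth.Agent.Etcore.Yext
import Groth.Agent.S11674
import Mathlib.RingTheory.SimpleModule.Rank

/-!
# Uniform bundles on the plane of type `(a₁ + 1, a₁)` with `H⁰(E(-a₀)) = 0` are twists of `Ω`

* `nonempty_ker_iso`: the kernel of an epimorphism `O(m)^{n+1} ⟶ O(m+1)` is unique up to isomorphism.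
* `nonempty_omega_tw_iso`: `Ω(b)` is this kernel.
* `iso_omega`.
-/

set_option autoImplicit false
universe u

open CategoryTheory CategoryTheory.Limits AlgebraicGeometry Opposite TopologicalSpace

namespace K126.Ext1

open K697 K697.Lin K697.LinSeq Groth.Agent Groth.Agent.VarietyB Groth.Agent.VarietyA.EulerLES
open Groth.Agent.VarietyB.TensCoh (HasBases)
open K126.Nonsing K126.Restr K126.Hyp K126.Uniform K126.Gap1 K697.IsoCrit K697.Lift K697.NegVan
open Groth.Agent.PerfB.TwistDer K699.GMat K699.LinForm K699.KerSplit K699.Euler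

attribute [local instance] Abelian.hasFiniteBiproducts
attribute [local instance] CategoryTheory.Limits.HasFiniteBiproducts.of_hasFiniteProducts

variable {k : Type u} [Field k] {n : ℕ}

/-- The kernel of an epimorphism `O(m)^{n+1} ⟶ O(m+1)`. -/
theorem nonempty_ker_iso {m m' : ℤ} (h : m + (1 : ℕ) = m') (S : ShortComplex (Proj (CohB1.polyGrading n k)).Modules)
    (hS : S.ShortExact) (e2 : S.X₂ ≅ OO n k (Fin (n + 1)) m) (e3 : S.X₃ ≅ T n k m') :
    Nonempty (S.X₁ ≅ kernel (row h (xf (n := n) (R := k)))) := by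
  obtain ⟨A, hA⟩ := exists_row h (e2.inv ≫ S.g ≫ e3.hom)
  choose a ha using fun i => exists_lf (A i)
  have hA' : e2.inv ≫ S.g ≫ e3.hom = row h fun i => lf (a i) := by
    rw [hA]
    congr 1
    exact funext ha
  have := hS.epi_g
  have hepi : Epi (row h fun i => lf (a i)) := by
    rw [← hA']
    infer_instance
  have e1 : Nonempty (S.X₁ ≅ kernel (row h fun i => lf (a i))) := by
    rw [← hA']
    exact ⟨(IsLimit.conePointUniqueUpToIso hS.fIsKernel (kernelIsKernel S.g)) ≪≫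
        (kernel.mapIso S.g (e2.inv ≫ S.g ≫ e3.hom) e2 e3 (by simp))⟩
  obtain ⟨e1⟩ := e1
  obtain ⟨e'⟩ := nonempty_kernel_row_iso (κ := Fin 0) h a (by simp)
  have h0 : IsZero (OO n k (Fin 0) m) := by
    rw [IsZero.iff_id_eq_zero]
    exact biproduct.hom_ext _ _ fun j => j.elim0
  exact ⟨e1 ≪≫ e' ≪≫ (isoBiprodZero h0).symm⟩

/-- Additive functors and sums of twists. -/
theorem nonempty_map_OO {X : Scheme.{u}} (F : X.Modules ⥤ X.Modules) [F.Additive] (N : ℕ)
    {L M : X.Modules} (e : F.obj L ≅ M) : Nonempty (F.obj (⨁ fun _ : Fin N => L) ≅ ⨁ fun _ : Fin N => M) :=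
  ⟨F.mapBiproduct (fun _ : Fin N => L) ≪≫ biproduct.mapIso fun _ => e⟩

theorem sigma_iso_biprod {X : Scheme.{u}} (N : ℕ) (L : X.Modules) :
    Nonempty ((∐ fun _ : Fin N => L) ≅ ⨁ fun _ : Fin N => L) := ⟨(biproduct.isoCoproduct _).symm⟩

theorem nonempty_map_tw (n : ℕ) (k : Type u) [Field k] {b m : ℤ} (hm : -1 + b = m) :
    Nonempty ((twM n k b).obj (OO n k (Fin (n + 1)) (-1)) ≅ OO n k (Fin (n + 1)) m) := by
  have hadd : (twM n k b).Additive := (twMEquiv n k b).functor.additive_of_preserves_binary_products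
  exact nonempty_map_OO (twM n k b) (n + 1) (twMul n k (-1) b m hm)

theorem shortExact_tw {S : ShortComplex (CohB1.ProjSpace n k).Modules} (hS : S.ShortExact) (b : ℤ) :
    (S.map (twM n k b)).ShortExact := hS.map_of_exact (twM n k b)

/-- Twists of a presentation. -/
theorem nonempty_tw_iso {b m m' : ℤ} (hm : -1 + b = m) (hm' : 0 + b = m') (h : m + (1 : ℕ) = m')
    {S : ShortComplex (CohB1.ProjSpace n k).Modules} (hS : S.ShortExact)
    (e2 : S.X₂ ≅ OO n k (Fin (n + 1)) (-1)) (e3 : S.X₃ ≅ T n k 0) :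
    Nonempty ((twM n k b).obj S.X₁ ≅ kernel (row h (xf (n := n) (R := k)))) := by
  obtain ⟨e2'⟩ := nonempty_map_tw n k hm
  exact nonempty_ker_iso h _ (shortExact_tw hS b) ((twM n k b).mapIso e2 ≪≫ e2')
    ((twM n k b).mapIso e3 ≪≫ twMul n k 0 b m' hm')

theorem nonempty_omega_tw_iso (n : ℕ) (k : Type u) [Field k] {b m m' : ℤ} (hm : -1 + b = m) (hm' : 0 + b = m')
    (h : m + (1 : ℕ) = m') :
    Nonempty (CohB1.tensorMod (Omega.sheaf (CohB1.ProjSpace.toSpec n k)) (Twist.twistProjSpace n k b) ≅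
      kernel (row h (xf (n := n) (R := k)))) := by
  obtain ⟨a, ha, ⟨e⟩⟩ := exists_row_pullback (gz n k) (K699.Euler.twIso n k (-1))
  have hS : (ShortComplex.mk (kernel.ι (row hneg fun i => lf (a i)))
      (row hneg fun i => lf (a i)) (kernel.condition _)).ShortExact :=
    { exact := ShortComplex.exact_kernel _
      mono_f := inferInstanceAs (Mono (kernel.ι _))
      epi_g := ha }
  obtain ⟨e'⟩ := nonempty_tw_iso hm hm' h hS (Iso.refl _) (Iso.refl _)
  exact ⟨(twM n k b).mapIso ((omegaIso n k).symm ≪≫ e) ≪≫ e'⟩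

/-- If `H⁰(G(-b)) ⟶ H⁰(O(b)(-b))` is surjective, then `p : G ⟶ O(b)` has a section. -/
theorem exists_section_of_surjective {G : (CohB1.ProjSpace n k).Modules} {b : ℤ}
    (p : G ⟶ Twist.twistProjSpace n k b) (h : Function.Surjective (mapA k ((twM n k (-b)).map p) 0)) :
    ∃ s : Twist.twistProjSpace n k b ⟶ G, s ≫ p = 𝟙 _ := by
  let θ : Coh.structureModule (CohB1.ProjSpace n k) ≅ (twM n k (-b)).obj (Twist.twistProjSpace n k b) :=
    twZero n k ≪≫ (twMul n k b (-b) 0 (by ring)).symm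
  obtain ⟨t, ht⟩ := of_surjective_zero _ h (θ.hom.app ⊤ (Dcoh.Restrict.one ⊤))
  have hτ : Dcoh.Restrict.unitHom t ≫ (twM n k (-b)).map p = θ.hom := by
    apply Dcoh.Restrict.unit_hom_ext
    have h1 := Dcoh.Restrict.unitHom_app_one t
    exact (congrArg (((twM n k (-b)).map p).app ⊤) h1).trans ht
  have hσ : (θ.inv ≫ Dcoh.Restrict.unitHom t) ≫ (twM n k (-b)).map p = 𝟙 _ := by
    rw [Category.assoc, hτ, Iso.inv_hom_id]
  have hff : (twM n k (-b)).FullyFaithful := (twMEquiv n k (-b)).fullyFaithfulFunctor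
  refine ⟨hff.preimage (θ.inv ≫ Dcoh.Restrict.unitHom t), ?_⟩
  apply hff.map_injective
  refine ((twM n k (-b)).map_comp _ _).trans ?_
  rw [hff.map_preimage, hσ]
  exact ((twM n k (-b)).map_id _).symm

section Alg

variable {A B C D : Type u} [AddCommGroup A] [Module k A] [AddCommGroup B] [Module k B] [AddCommGroup C]
  [Module k C] [AddCommGroup D] [Module k D]

theorem bijective_of_ne_zero (f : A →ₗ[k] B) (hA : Module.finrank k A = 1) (hB : Module.finrank k B = 1)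
    (hf : f ≠ 0) : Function.Bijective f := by
  have hVs : IsSimpleModule k A := isSimpleModule_iff_finrank_eq_one.mpr hA
  have hWs : IsSimpleModule k B := isSimpleModule_iff_finrank_eq_one.mpr hB
  exact f.bijective_of_ne_zero hf

theorem subsingleton_of_injective (f : A →ₗ[k] B) (g : B →ₗ[k] C) (δ : C →ₗ[k] D) (h1 : Function.Exact f g)
    (h2 : Function.Exact g δ) (hδ : Function.Injective δ) (hA : Subsingleton A) : Subsingleton B := by
  refine subsingleton_of_forall_eq 0 fun x => ?_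
  have h3 : g x = 0 := hδ (((h2 _).2 ⟨x, rfl⟩).trans (map_zero δ).symm)
  obtain ⟨z, rfl⟩ := (h1 x).1 h3
  rw [Subsingleton.elim z 0, map_zero]

theorem subsingleton_of_surjective (δ : A →ₗ[k] B) (f : B →ₗ[k] C) (g : C →ₗ[k] D) (h1 : Function.Exact δ f)
    (h2 : Function.Exact f g) (hδ : Function.Surjective δ) (hD : Subsingleton D) : Subsingleton C := by
  refine subsingleton_of_forall_eq 0 fun x => ?_
  obtain ⟨z, rfl⟩ := (h2 x).1 (Subsingleton.elim _ _)
  obtain ⟨y, rfl⟩ := hδ z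
  exact (h1 _).2 ⟨y, rfl⟩

theorem finrank_eq_of_exact (f : A →ₗ[k] B) (g : B →ₗ[k] C) (δ : C →ₗ[k] D) (h1 : Function.Exact f g)
    (h2 : Function.Exact g δ) (hA : Subsingleton A) (hD : Subsingleton D) :
    Module.finrank k B = Module.finrank k C := by
  refine (LinearEquiv.ofBijective g ⟨?_, ?_⟩).finrank_eq
  · rw [injective_iff_map_eq_zero]
    intro x hx
    obtain ⟨z, rfl⟩ := (h1 x).1 hx
    rw [Subsingleton.elim z 0, map_zero]
  · intro y
    exact (h2 y).1 (Subsingleton.elim _ _)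

end Alg

/-- The rank of a sum of twists. -/
theorem rank_sigma {r : ℕ} (c : Fin r → ℤ) :
    FlatMod.IsFinLocFreeOfRank r (∐ fun j => Twist.twistProjSpace n k (c j)) := by
  refine Krr.H495.Rank.rank_iso (biproduct.isoCoproduct _) (K699.RankOO.rank_biproduct _ (by simp) fun x => ?_)
  obtain ⟨f, W, hxW, hW⟩ := Ega3B.ProjFrame.coveredByOne n k x
  exact ⟨W, hxW, fun j => ⟨Ega2.TwistInv.powSec f (c j) W hW, Ega2.TwistInv.isGen_powSec f (c j) W hW⟩⟩

variable {E : (CohB1.ProjSpace 2 k).Modules} {a : Fin 2 → ℤ}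

theorem h0_twO (b d c : ℤ) (hc : b + d = c) : Module.finrank k (Coh.HH (CohB1.ProjSpace n k)
    ((twM n k d).obj (Twist.twistProjSpace n k b)) 0) =
    Module.finrank k (Coh.HH (CohB1.ProjSpace n k) (Twist.twistProjSpace n k c) 0) :=
  K700.HDim.fr_iso k (twMul n k b d c hc) 0

section Core

variable {b : ℤ} {G : (CohB1.ProjSpace 2 k).Modules} {i : E ⟶ G} {p : G ⟶ Twist.twistProjSpace 2 k b} {w : i ≫ p = 0}

/-- A non-split extension of `O(b)` by `E`. -/
theorem exists_ext (hV : Module.finrank k (Coh.HH (CohB1.ProjSpace 2 k) (LinSeq.tw E (-b)) 1) = 1) :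
    ∃ (G : (CohB1.ProjSpace 2 k).Modules) (i : E ⟶ G) (p : G ⟶ Twist.twistProjSpace 2 k b) (w : i ≫ p = 0)
      (_ : (ShortComplex.mk i p w).ShortExact), ¬ ∃ s : Twist.twistProjSpace 2 k b ⟶ G, s ≫ p = 𝟙 _ := by
  have hInj := K697.ExtTw.enoughInjectives (CohB1.ProjSpace 2 k)
  have hExt := K697.ExtTw.hasExt (CohB1.ProjSpace 2 k)
  obtain ⟨e⟩ := K697.ExtTw.exists_extO 2 k b E 1
  have hnt : Nontrivial (Abelian.Ext (Twist.twistProjSpace 2 k b) E 1) := by
    have : Nontrivial (Coh.HH (CohB1.ProjSpace 2 k) (LinSeq.tw E (-b)) 1) :=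
      Module.nontrivial_of_finrank_pos (R := k) (by rw [hV]; norm_num)
    exact e.toEquiv.nontrivial
  obtain ⟨x, hx⟩ := exists_ne (0 : Abelian.Ext (Twist.twistProjSpace 2 k b) E 1)
  obtain ⟨G, i, p, w, hS, hcl⟩ := Etcore.Yext.exists_extClass x
  exact ⟨G, i, p, w, hS, fun hs => hx (hcl.symm.trans ((Etcore.Yext.extClass_eq_zero_iff hS).mpr hs))⟩

theorem bijective_delta (hV : Module.finrank k (Coh.HH (CohB1.ProjSpace 2 k) (LinSeq.tw E (-b)) 1) = 1)
    (hS : (ShortComplex.mk i p w).ShortExact) (hns : ¬ ∃ s : Twist.twistProjSpace 2 k b ⟶ G, s ≫ p = 𝟙 _) :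
    Function.Bijective (deltaA k _ (shortExact_tw hS (-b)) 0 1 rfl) := by
  refine bijective_of_ne_zero _ ((h0_twO b (-b) 0 (by ring)).trans (finrank_O_zero 2)) hV ?_
  intro hD
  apply hns
  apply exists_section_of_surjective p
  intro y
  exact (exactA₃ k _ (shortExact_tw hS (-b)) 0 1 rfl y).1 (LinearMap.congr_fun hD y)

theorem h0_G_eq_zero (hE0 : Subsingleton (Coh.HH (CohB1.ProjSpace 2 k) (LinSeq.tw E (-b)) 0))
    (hS : (ShortComplex.mk i p w).ShortExact)
    (hδ : Function.Bijective (deltaA k _ (shortExact_tw hS (-b)) 0 1 rfl)) :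
    Subsingleton (Coh.HH (CohB1.ProjSpace 2 k) ((twM 2 k (-b)).obj G) 0) :=
  subsingleton_of_injective _ _ _ (exactA₂ k _ (shortExact_tw hS (-b)) 0)
    (exactA₃ k _ (shortExact_tw hS (-b)) 0 1 rfl) hδ.1 hE0

theorem h1_O (d : ℤ) :
    Subsingleton (Coh.HH (CohB1.ProjSpace 2 k) ((twM 2 k d).obj (Twist.twistProjSpace 2 k b)) 1) :=
  Fga.HShift.subsingleton_of_iso (twMul 2 k b d _ rfl).symm 1 (S0844.result k 2 _ 1 (by omega) (by omega))

theorem h1_G_eq_zero (hS : (ShortComplex.mk i p w).ShortExact)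
    (hδ : Function.Bijective (deltaA k _ (shortExact_tw hS (-b)) 0 1 rfl))
    (hV' : ∀ d, d ≠ -b → Subsingleton (Coh.HH (CohB1.ProjSpace 2 k) (LinSeq.tw E d) 1)) (d : ℤ) :
    Subsingleton (Coh.HH (CohB1.ProjSpace 2 k) ((twM 2 k d).obj G) 1) := by
  by_cases hd : d = -b
  · subst hd
    exact subsingleton_of_surjective _ _ _ (exactA₁ k _ (shortExact_tw hS (-b)) 0 1 rfl)
      (exactA₂ k _ (shortExact_tw hS (-b)) 1) hδ.2 (h1_O (-b))
  · exact Fga.HShift.subsingleton₂ (shortExact_tw hS d) 1 (hV' d hd) (h1_O d)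

theorem h0_G_eq_three (hS : (ShortComplex.mk i p w).ShortExact) {d : ℤ} (hd : b + d = (1 : ℕ))
    (h0 : Subsingleton (Coh.HH (CohB1.ProjSpace 2 k) (LinSeq.tw E d) 0))
    (h1 : Subsingleton (Coh.HH (CohB1.ProjSpace 2 k) (LinSeq.tw E d) 1)) :
    Module.finrank k (Coh.HH (CohB1.ProjSpace 2 k) ((twM 2 k d).obj G) 0) = 3 := by
  have h2 : Module.finrank k (Coh.HH (CohB1.ProjSpace 2 k) ((twM 2 k d).obj G) 0) =
      Module.finrank k (Coh.HH (CohB1.ProjSpace 2 k) ((twM 2 k d).obj (Twist.twistProjSpace 2 k b)) 0) :=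
    finrank_eq_of_exact _ _ _ (exactA₂ k _ (shortExact_tw hS d) 0)
      (exactA₃ k _ (shortExact_tw hS d) 0 1 rfl) h0 h1
  rw [h2, h0_twO b d _ hd, finrank_O]
  rfl

theorem exists_split (hrk : FlatMod.IsFinLocFreeOfRank 3 G)
    (h3 : ∃ d, Module.finrank k (Coh.HH (CohB1.ProjSpace 2 k) ((twM 2 k d).obj G) 0) = 3)
    (h0 : ∃ n₀ : ℤ, ∀ d, d ≤ n₀ → Subsingleton (Coh.HH (CohB1.ProjSpace 2 k) ((twM 2 k d).obj G) 0))
    (h1 : ∀ d, Subsingleton (Coh.HH (CohB1.ProjSpace 2 k) ((twM 2 k d).obj G) 1)) :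
    ∃ c : Fin 3 → ℤ, Nonempty (G ≅ ∐ fun j => Twist.twistProjSpace 2 k (c j)) := by
  have hGlf := Krr.H495.Rank.isFinLocFree_of_rank hrk
  have hGne : ¬ IsZero G := by
    intro hz
    obtain ⟨d, h3⟩ := h3
    have h2 := Fga.HShift.subsingleton_of_isZero ((twM 2 k d).map_isZero hz) 0
    have h3' : Module.finrank k (Coh.HH (CohB1.ProjSpace 2 k) ((twM 2 k d).obj G) 0) = 0 :=
      Module.finrank_zero_of_subsingleton
    omega
  obtain ⟨r, c, ⟨eG⟩⟩ := (S11674.result k 2 (by norm_num) G (isCoh_of_isFinLocFree hGlf) hGne).mpr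
    ⟨h0, fun d q hj hj' => by
      obtain rfl : q = 1 := by omega
      exact h1 d⟩
  have hne : Nonempty (CohB1.ProjSpace 2 k) := K698.Pl.nonempty_Pt
  obtain rfl : r = 3 := Krr.H495.Rank.rank_unique (Krr.H495.Rank.rank_iso eG.symm (rank_sigma c)) hrk
  exact ⟨c, ⟨eG⟩⟩

theorem h0_sum {c : Fin 3 → ℤ} (eG : G ≅ ∐ fun j => Twist.twistProjSpace 2 k (c j)) (d : ℤ) :
    Module.finrank k (Coh.HH (CohB1.ProjSpace 2 k) ((twM 2 k d).obj G) 0) =
      ∑ j, Module.finrank k (Coh.HH (CohB1.ProjSpace 2 k) (Twist.twistProjSpace 2 k (c j + d)) 0) :=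
  (K700.HDim.fr_iso k (K697.Lift.twIso eG d ≪≫ sumTw c d) 0).trans
    (finrank_sum (fun j => c j + d) fun j => finite_O 2 _)

theorem type_eq {c : Fin 3 → ℤ} (eG : G ≅ ∐ fun j => Twist.twistProjSpace 2 k (c j)) {a₀ : ℤ}
    (h0 : Subsingleton (Coh.HH (CohB1.ProjSpace 2 k) ((twM 2 k (-(a₀ + 1))).obj G) 0))
    (h3 : Module.finrank k (Coh.HH (CohB1.ProjSpace 2 k) ((twM 2 k (-a₀)).obj G) 0) = 3) (j : Fin 3) : c j = a₀ := by
  have hneg : ∀ j, c j + -(a₀ + 1) < 0 := by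
    intro j
    by_contra hcon
    push Not at hcon
    obtain ⟨m, hm⟩ := Int.eq_ofNat_of_zero_le hcon
    have h2 := h0_sum eG (-(a₀ + 1))
    have h3 : Module.finrank k (Coh.HH (CohB1.ProjSpace 2 k) ((twM 2 k (-(a₀ + 1))).obj G) 0) = 0 :=
      Module.finrank_zero_of_subsingleton
    rw [h3] at h2
    have h4 := (Finset.sum_eq_zero_iff.mp h2.symm) j (Finset.mem_univ j)
    rw [hm, finrank_O] at h4
    exact absurd h4 (Nat.choose_pos (by omega)).ne'
  have hone : ∀ j, Module.finrank k (Coh.HH (CohB1.ProjSpace 2 k) (Twist.twistProjSpace 2 k (c j + -a₀)) 0) ≤ 1 ∧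
      (c j ≠ a₀ → Module.finrank k (Coh.HH (CohB1.ProjSpace 2 k)
        (Twist.twistProjSpace 2 k (c j + -a₀)) 0) = 0) := by
    intro j
    by_cases hj : c j = a₀
    · refine ⟨?_, fun h => absurd hj h⟩
      rw [hj, add_neg_cancel, finrank_O_zero]
    · have h2 : Subsingleton (Coh.HH (CohB1.ProjSpace 2 k) (Twist.twistProjSpace 2 k (c j + -a₀)) 0) :=
        S0844.result k 2 _ 0 (by have := hneg j; omega) (by omega)
      have h3 : Module.finrank k (Coh.HH (CohB1.ProjSpace 2 k) (Twist.twistProjSpace 2 k (c j + -a₀)) 0) = 0 :=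
        Module.finrank_zero_of_subsingleton
      exact ⟨by omega, fun _ => h3⟩
  have key : ∀ (x : Fin 3 → ℕ), 3 = ∑ j, x j → (∀ j, x j ≤ 1) → ∀ j, x j ≠ 0 := by
    intro x hx hle j hj
    rw [Fin.sum_univ_three] at hx
    have h4 := hle 0
    have h5 := hle 1
    have h6 := hle 2
    fin_cases j
    · have h7 : x 0 = 0 := hj
      omega
    · have h7 : x 1 = 0 := hj
      omega
    · have h7 : x 2 = 0 := hj
      omega
  by_contra hcon
  exact key _ (h3.symm.trans (h0_sum eG (-a₀))) (fun j => (hone j).1) j ((hone j).2 hcon)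

end Core

theorem iso_omega [IsAlgClosed k] (h : Unif E a) (hrk : FlatMod.IsFinLocFreeOfRank 2 E) (h1 : a 0 = a 1 + 1)
    (h0 : Subsingleton (Coh.HH (CohB1.ProjSpace 2 k) (LinSeq.tw E (-(a 0))) 0)) :
    Nonempty (E ≅ CohB1.tensorMod (Omega.sheaf (CohB1.ProjSpace.toSpec 2 k))
      (Twist.twistProjSpace 2 k (a 0 + 1))) := by
  obtain ⟨hV, hV'⟩ := h1_cohomology h h1 h0
  rw [show -(a 0) - 1 = -(a 0 + 1) by ring] at hV hV'
  obtain ⟨G, i, p, w, hS, hns⟩ := exists_ext hV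
  have hδ := bijective_delta hV hS hns
  have hG0 := h0_G_eq_zero (h.h0E (-(a 0 + 1)) (by omega)) hS hδ
  have hG3 := h0_G_eq_three hS (d := -(a 0)) (by push_cast; omega) h0 (hV' _ (by omega))
  have hGrk : FlatMod.IsFinLocFreeOfRank 3 G :=
    Krr.H495.Rank.rank_shortExact hS hrk (K699.RankOO.rank_T (n := 2) (R := k) (a 0 + 1))
  obtain ⟨c, ⟨eG⟩⟩ := exists_split hGrk ⟨_, hG3⟩
    ⟨-(a 0 + 1) - 1, fun d hd => Fga.HShift.subsingleton₂ (shortExact_tw hS d) 0 (h.h0E d (by omega))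
      (Fga.HShift.subsingleton_of_iso (twMul 2 k (a 0 + 1) d _ rfl).symm 0
        (S0844.result k 2 _ 0 (by omega) (by omega)))⟩ (h1_G_eq_zero hS hδ hV')
  obtain rfl : c = fun _ => a 0 := funext (type_eq eG hG0 hG3)
  obtain ⟨e3⟩ := sigma_iso_biprod 3 (Twist.twistProjSpace 2 k (a 0))
  obtain ⟨e1⟩ := nonempty_ker_iso (n := 2) (m := a 0) (m' := a 0 + 1) (by push_cast; omega) _ hS
    (eG ≪≫ e3) (Iso.refl _)
  obtain ⟨e2⟩ := nonempty_omega_tw_iso 2 k (b := a 0 + 1) (m := a 0) (m' := a 0 + 1) (by omega) (by omega)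
    (by push_cast; omega)
  exact ⟨e1 ≪≫ e2.symm⟩

end K126.Ext1
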