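import Groth.Agent.VBPn.K126.Uniform
import Groth.Agent.VBPn.K699.Euler
import Groth.Agent.VBPn.K699.RankOO
import Groth.Agent.CAlgX.K581.HomDim
import Groth.Agent.Krr.H495.Rank
import Groth.Agent.Etcore.Yext
import Groth.Agent.S11674
import Groth.Agent.S0843
import Groth.Agent.Fga.MumInputs
import Groth.Agent.VBPn.K700.HDim

/-!
# Uniform bundles on the plane of type `(-1, -2)` without sections of `E(1)` are `Ω`
-/

set_option autoImplicit false
universe u

open CategoryTheory CategoryTheory.Limits AlgebraicGeometry Opposite TopologicalSpace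

namespace K126.Gap1

open K697 K697.Lin K697.LinSeq Groth.Agent Groth.Agent.VarietyB Groth.Agent.VarietyA.EulerLES
open Groth.Agent.VarietyB.TensCoh (HasBases)
open K126.Nonsing K126.Restr K126.Hyp K126.Uniform K697.IsoCrit K697.Lift K697.NegVan

attribute [local instance] CategoryTheory.Limits.HasFiniteBiproducts.of_hasFiniteProducts

variable {k : Type u} [Field k]

theorem finrank_O (n d : ℕ) : Module.finrank k (Coh.HH (CohB1.ProjSpace n k) (Twist.twistProjSpace n k (d : ℤ)) 0) =
    Nat.choose (d + n) n := by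
  obtain ⟨e⟩ := S0843.result k n d
  rw [e.finrank_eq, K581.HomDim.finrank_homogeneous]

theorem finrank_O_zero (n : ℕ) : Module.finrank k (Coh.HH (CohB1.ProjSpace n k) (Twist.twistProjSpace n k 0) 0) = 1 := by
  have h := finrank_O (k := k) n 0
  simpa using h

/-- `h^0` of a sum of twists. -/
theorem finrank_sum {n : ℕ} {ι : Type} [Fintype ι] (c : ι → ℤ)
    (hfin : ∀ j, Module.Finite k (Coh.HH (CohB1.ProjSpace n k) (Twist.twistProjSpace n k (c j)) 0)) :
    Module.finrank k (Coh.HH (CohB1.ProjSpace n k) (∐ fun j => Twist.twistProjSpace n k (c j)) 0) =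
      ∑ j, Module.finrank k (Coh.HH (CohB1.ProjSpace n k) (Twist.twistProjSpace n k (c j)) 0) := by
  refine (K700.HDim.fr_iso k (biproduct.isoCoproduct (fun j => Twist.twistProjSpace n k (c j))).symm 0).trans ?_
  exact ((K700.HDim.biprodEquiv k (fun j => Twist.twistProjSpace n k (c j)) 0).finrank_eq).trans
    (Module.finrank_pi_fintype k)

theorem finite_O (n : ℕ) (d : ℤ) :
    Module.Finite k (Coh.HH (CohB1.ProjSpace n k) (Twist.twistProjSpace n k d) 0) :=
  (Fga.MumInputs.finite_twist k n d).1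

variable {E : (CohB1.ProjSpace 2 k).Modules} {a : Fin 2 → ℤ}

theorem finrank_line (h : Unif E a) (hlt : a 1 < a 0) (A : (Fin (2 + 1) → k) →ₗ[k] (Fin (1 + 1) → k))
    (hA : Function.Surjective A) :
    Module.finrank k (Coh.HH (CohB1.ProjSpace 1 k) (LinSeq.tw (restE A hA E) (-(a 0))) 0) = 1 := by
  obtain ⟨e⟩ := h.spl A hA
  have h1 := K700.HDim.fr_iso k (twIso e (-(a 0)) ≪≫ sumTw a (-(a 0))) 0
  refine h1.trans ((finrank_sum (fun j => a j + -(a 0)) fun j => finite_O 1 _).trans ?_)
  rw [Fin.sum_univ_two, add_neg_cancel, finrank_O_zero]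
  have h2 : Subsingleton (Coh.HH (CohB1.ProjSpace 1 k) (Twist.twistProjSpace 1 k (a 1 + -(a 0))) 0) :=
    S0844.result k 1 _ 0 (by omega) (by omega)
  rw [Module.finrank_zero_of_subsingleton]

theorem h1_cohomology [IsAlgClosed k] (h : Unif E a) (h1 : a 0 = a 1 + 1)
    (h0 : Subsingleton (Coh.HH (CohB1.ProjSpace 2 k) (LinSeq.tw E (-(a 0))) 0)) :
    Module.finrank k (Coh.HH (CohB1.ProjSpace 2 k) (LinSeq.tw E (-(a 0) - 1)) 1) = 1 ∧
    ∀ d, d ≠ -(a 0) - 1 → Subsingleton (Coh.HH (CohB1.ProjSpace 2 k) (LinSeq.tw E d) 1) := by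
  have hfin := finite_HH h.lf
  have hb1 : -(a 0) - 1 + 1 = -(a 0) := by ring
  have hb2 : -(a 0) - 2 + 1 = -(a 0) - 1 := by ring
  have f1 := hfin (-(a 0)) 1
  have f2 := hfin (-(a 0) - 1) 1
  have f3 := hfin (-(a 0) - 2) 1
  have hdim : Module.finrank k (Coh.HH (CohB1.ProjSpace 2 k) (LinSeq.tw E (-(a 0) - 1)) 1) =
      Module.finrank k (Coh.HH (CohB1.ProjSpace 2 k) (LinSeq.tw E (-(a 0))) 1) + 1 := by
    obtain ⟨A, hA, hker⟩ := exists_hyp (k := k) _ e0_ne
    have h2 := finrank_ker_mulB hA (hasBases h.lf) e0_ne hker hb1 0 h0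
    rw [finrank_line h (by omega) A hA] at h2
    have h3 := (mulB E hb1 1 (Pi.single 0 1)).finrank_range_add_finrank_ker
    rw [LinearMap.range_eq_top.mpr (h.surj hb1 (by omega) _ e0_ne), finrank_top] at h3
    rw [← h3]
    congr 1
  have hW : Subsingleton (Coh.HH (CohB1.ProjSpace 2 k) (LinSeq.tw E (-(a 0))) 1) := by
    by_contra hcon
    rw [not_subsingleton_iff_nontrivial] at hcon
    have h2 := le_of_surjective (mulB E hb1 1) (h.surj hb1 (by omega))
    omega
  have hW0 : Module.finrank k (Coh.HH (CohB1.ProjSpace 2 k) (LinSeq.tw E (-(a 0))) 1) = 0 :=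
    Module.finrank_zero_of_subsingleton
  have hV : Module.finrank k (Coh.HH (CohB1.ProjSpace 2 k) (LinSeq.tw E (-(a 0) - 1)) 1) = 1 := by omega
  have hV' : Subsingleton (Coh.HH (CohB1.ProjSpace 2 k) (LinSeq.tw E (-(a 0) - 2)) 1) := by
    by_contra hcon
    rw [not_subsingleton_iff_nontrivial] at hcon
    have h2 := le_of_injective (mulB E hb2 1) (h.inj hb2 (by omega))
    omega
  refine ⟨hV, fun d hd => ?_⟩
  rcases lt_or_gt_of_ne hd with hlt | hgt
  · have hle : d ≤ -(a 0) - 2 := by omega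
    induction d, hle using Int.leInductionDown with
    | base => exact hV'
    | pred d hd' ih =>
      have := ih (by omega) (by omega)
      exact (h.inj (show d - 1 + 1 = d by ring) (by omega) _ e0_ne).subsingleton
  · have hle : -(a 0) ≤ d := by omega
    induction d, hle using Int.leInduction with
    | base => exact hW
    | succ d hd' ih =>
      have := ih (by omega) (by omega)
      exact (h.surj (show d + 1 = d + 1 from rfl) (by omega) _ e0_ne).subsingleton

end K126.Gap1
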