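import Groth.Agent.VBPn.K697.LinSeq
import Groth.Agent.VBPn.K698.PlPull
import Groth.Agent.VBPn.K698.PlExist
import Groth.Agent.VBPn.K699.LinForm
import Mathlib.RingTheory.GradedAlgebra.Radical

/-!
# Sections of rank-two bundles from sections on all hyperplanes

* `exists_section`: a rank-two bundle `E` on `P^n`, `n ≥ 2`, `det E = O(c)`, such that `E_H` has a nonzero map from
  `O(b)` for all hyperplanes `H`, `c + 2 ≤ 2 b`: then so does `E` (characteristic zero).
-/

set_option autoImplicit false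
universe u

open CategoryTheory CategoryTheory.Limits AlgebraicGeometry Opposite TopologicalSpace MvPolynomial

namespace K126.Gap2

open K697.Lin K697.LinSeq K698.Pl K698.ThmA K698.Val K698.Wedge

variable {k : Type u} [Field k] {n : ℕ}

/-- The linear map on linear forms attached to the hyperplane `T_0 = ∑ z_i T_i`. -/
def Az (z : Fin n → k) : (Fin (n + 1) → k) →ₗ[k] (Fin n → k) where
  toFun v i := v 0 * z i + v i.succ
  map_add' v w := by funext i; simp only [Pi.add_apply]; ring
  map_smul' c v := by funext i; simp only [Pi.smul_apply, smul_eq_mul, RingHom.id_apply]; ring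

theorem Az_surjective (z : Fin n → k) : Function.Surjective (Az z) := by
  intro w
  refine ⟨Fin.cons 0 w, ?_⟩
  funext i
  simp [Az]

theorem subst_Az (z : Fin (n + 1) → k) (f : MvPolynomial (Fin (n + 2)) k) : subst (Az z) f = psi z f := by
  have : subst (Az z) = psi z := by
    apply MvPolynomial.algHom_ext
    intro i
    rw [subst_X]
    refine Fin.cases ?_ (fun j => ?_) i
    · simp [psi, lf, Az, Fin.succ_ne_zero]
    · have h1 : Az z (Pi.single j.succ 1) = Pi.single j 1 := by
        funext i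
        simp [Az, Pi.single_apply, Fin.succ_ne_zero, (Fin.succ_injective _).eq_iff, eq_comm]
      rw [h1, lf_single]
      simp [psi]
  rw [this]

/-- Forms without common zeros generate an ideal containing powers of the variables. -/
theorem exists_pow_mem {ι : Type} {D : ℕ} (q : ι → CohB1.polyGrading n k D)
    (hq : ∀ x : ProjectiveSpectrum (CohB1.polyGrading n k), ∃ i, (q i).1 ∉ x.asHomogeneousIdeal)
    (j : Fin (n + 1)) : ∃ M : ℕ, (X j : MvPolynomial (Fin (n + 1)) k) ^ M ∈
      Ideal.span (Set.range fun i => (q i).1) := by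
  let I : Ideal (MvPolynomial (Fin (n + 1)) k) := Ideal.span (Set.range fun i => (q i).1)
  have hI : I.IsHomogeneous (CohB1.polyGrading n k) := Ideal.homogeneous_span _ _ (by
    rintro _ ⟨i, rfl⟩
    exact ⟨D, (q i).2⟩)
  by_contra hcon
  push Not at hcon
  have h1 : (X j : MvPolynomial (Fin (n + 1)) k) ∉ I.radical := by
    rintro ⟨M, hM⟩
    exact hcon M hM
  rw [hI.radical_eq, Submodule.mem_sInf] at h1
  push Not at h1
  obtain ⟨J, ⟨hJh, hIJ, hJp⟩, hXJ⟩ := h1
  let x : ProjectiveSpectrum (CohB1.polyGrading n k) :=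
    { asHomogeneousIdeal := ⟨J, hJh⟩
      isPrime := hJp
      not_irrelevant_le := by
        intro h
        apply hXJ
        apply h
        have h1 : (X j : MvPolynomial (Fin (n + 1)) k) ∈ HomogeneousIdeal.irrelevant (CohB1.polyGrading n k) := by
          rw [HomogeneousIdeal.mem_irrelevant_iff]
          exact DirectSum.decompose_of_mem_ne (ℳ := CohB1.polyGrading n k) (MvPolynomial.isHomogeneous_X k j)
            (one_ne_zero (α := ℕ))
        exact h1 }
  obtain ⟨i, hi⟩ := hq x
  exact hi (hIJ (Ideal.subset_span ⟨i, rfl⟩))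

/-- **Sections from sections on hyperplanes.** -/
theorem exists_section [CharZero k] (hn : 1 ≤ n) {E : (PP (n + 1) k).Modules}
    (hE : FlatMod.IsFinLocFreeOfRank 2 E) {c : ℤ} {f : CohB1.tensorMod E E ⟶ OO (n + 1) k c} (hf : IsWedge f)
    (b : ℤ) (hb : c + 2 ≤ 2 * b)
    (hsec : ∀ (A : (Fin (n + 1 + 1) → k) →ₗ[k] (Fin (n + 1) → k)) (hA : Function.Surjective A),
      ∃ v : Twist.twistProjSpace n k b ⟶ restE A hA E, v ≠ 0) :
    ∃ v : OO (n + 1) k b ⟶ E, v ≠ 0 := by
  obtain ⟨m₀, hm₀⟩ := exists_pres hE hf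
  obtain ⟨m, hm1, hm2, hm3⟩ : ∃ m : ℤ, m ≤ m₀ ∧ b ≤ c - m ∧ m ≤ c - m :=
    ⟨min m₀ (min (c - b) (-|c|)), by omega, by omega, by
      have h1 := neg_abs_le c
      have h2 := abs_nonneg c
      omega⟩
  obtain ⟨D, hD⟩ : ∃ D : ℕ, m + D = c - m := ⟨(c - m - m).toNat, by omega⟩
  obtain ⟨e, he⟩ : ∃ e : ℕ, b + e = c - m := ⟨(c - m - b).toNat, by omega⟩
  obtain ⟨N, ⟨P⟩⟩ := hm₀ m (c - m) D hm1 (by ring) hD
  have hA := Groth.Agent.Ega3B.ProjFrame.coveredByOne (n + 1) k
  obtain ⟨s, hs0, hse, hs⟩ := thmA (k := k) (n := n + 1) (by omega) (D := D) (e := e)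
    (fun a b => (P.q a b).1) (fun a b => (P.q a b).2)
    (fun i => by
      obtain ⟨M, hM⟩ := exists_pow_mem (ι := Fin N × Fin N) (fun p => P.q p.1 p.2) (fun x => by
        obtain ⟨a, b, h⟩ := P.nz x
        exact ⟨(a, b), h⟩) i
      exact ⟨M, hM⟩) (Or.inl (by omega)) (by
    intro z
    obtain ⟨v, hv⟩ := hsec (Az z) (Az_surjective z)
    let P' := P.pull (K697.Lin.gr (Az z)) (Groth.Agent.Sga5.ProjSurj.irrelevant_le_map (degSurj (Az_surjective z))) hA
    obtain ⟨t, ht, hpl⟩ := Pres.exists_forms P' he v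
    refine ⟨fun a => (t a).1, ?_, fun a => (t a).2, ?_⟩
    · intro h0
      apply Pres.forms_ne_zero P' ht hv
      funext a
      exact Subtype.ext (congrFun h0 a)
    · intro a b c
      have h1 : (P'.q a b).1 * (t c).1 - (P'.q a c).1 * (t b).1 + (P'.q b c).1 * (t a).1 = 0 := hpl a b c
      have h2 : ∀ a b, (P'.q a b).1 = psi z (P.q a b).1 := fun a b => subst_Az z _
      rw [h2, h2, h2] at h1
      exact h1)
  obtain ⟨v, hv⟩ := P.exists_map he (fun a => ⟨s a, hse a⟩) hs
  refine ⟨v, P.ne_zero_of_forms hv ?_⟩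
  intro h0
  apply hs0
  funext a
  exact congrArg Subtype.val (congrFun h0 a)

end K126.Gap2
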