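import Groth.Agent.VBPn.K697.LinSeq
import Groth.Agent.VBPn.K697.Pencil
import Groth.Agent.S14510

/-!
# Multiplication by linear forms on cohomology; non-singular pairings

* `le_of_injective`, `le_of_surjective`: Hopf's lemma for families of maps parametrised by `k^(n+1)`.
* `mulB`: the bilinear map `k^(n+1) × H^q(E(d)) → H^q(E(d'))`.
-/

set_option autoImplicit false
universe u

open CategoryTheory CategoryTheory.Limits AlgebraicGeometry Opposite TopologicalSpace

namespace K126.Nonsing

open K697.Lin K697.LinSeq Groth.Agent.VarietyA.EulerLES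
open Groth.Agent.VarietyB.TwistMul Groth.Agent.VarietyB

section Alg

variable {k : Type u} [Field k] [IsAlgClosed k] {n : ℕ} {V W : Type u} [AddCommGroup V] [Module k V]
  [AddCommGroup W] [Module k W] [Module.Finite k V] [Module.Finite k W]

/-- A family of injective linear maps parametrised linearly by `k^(n+1) ∖ 0`. -/
theorem le_of_injective (B : (Fin (n + 1) → k) →ₗ[k] V →ₗ[k] W) [Nontrivial V]
    (h : ∀ v, v ≠ 0 → Function.Injective (B v)) :
    (n + 1) + Module.finrank k V ≤ Module.finrank k W + 1 := by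
  have h1 := Groth.Agent.S14510.result k (Fin (n + 1) → k) V W B fun a b ha hb h0 =>
    hb (h a ha (h0.trans (map_zero _).symm))
  rwa [Module.finrank_fin_fun] at h1

/-- A family of surjective linear maps parametrised linearly by `k^(n+1) ∖ 0`. -/
theorem le_of_surjective (B : (Fin (n + 1) → k) →ₗ[k] V →ₗ[k] W) [Nontrivial W]
    (h : ∀ v, v ≠ 0 → Function.Surjective (B v)) :
    (n + 1) + Module.finrank k W ≤ Module.finrank k V + 1 := by
  let B' : (Fin (n + 1) → k) →ₗ[k] Module.Dual k W →ₗ[k] Module.Dual k V :=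
    (Module.Dual.transpose (R := k) (M := V) (M' := W)) ∘ₗ B
  have h1 := le_of_injective B' fun v hv => LinearMap.dualMap_injective_of_surjective (h v hv)
  rwa [Subspace.dual_finrank_eq, Subspace.dual_finrank_eq] at h1

end Alg

section Mul

variable {k : Type u} [Field k] {n : ℕ}

theorem mapA_add {X : Scheme.{u}} [X.Over (Spec (CommRingCat.of k))] {M N : X.Modules} (f g : M ⟶ N) (q : ℕ) :
    mapA k (f + g) q = mapA k f q + mapA k g q :=
  LinearMap.ext fun x => LinearMap.congr_fun (mapΓ_add f g q) x

theorem mapA_smul {X : Scheme.{u}} [X.Over (Spec (CommRingCat.of k))] {M N : X.Modules} (c : k) (f : M ⟶ N) (q : ℕ) :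
    mapA k (f ≫ Formal.smulMod k N c) q = c • mapA k f q :=
  LinearMap.ext fun x => LinearMap.congr_fun (mapΓ_comp f (Formal.smulMod k N c) q) x

theorem mapA_mulE_add (E : (CohB1.ProjSpace n k).Modules) {d d' : ℤ} (h : d + 1 = d') (q : ℕ)
    (v w : Fin (n + 1) → k) : mapA k (mulE E (v + w) h) q = mapA k (mulE E v h) q + mapA k (mulE E w h) q := by
  rw [mulE_add, mapA_add]

theorem mapA_mulE_smul (E : (CohB1.ProjSpace n k).Modules) {d d' : ℤ} (h : d + 1 = d') (q : ℕ)
    (c : k) (v : Fin (n + 1) → k) : mapA k (mulE E (c • v) h) q = c • mapA k (mulE E v h) q := by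
  rw [K697.Pencil.mulE_smul, mapA_smul]

/-- Multiplication by linear forms on cohomology, as a bilinear map. -/
noncomputable def mulB (E : (CohB1.ProjSpace n k).Modules) {d d' : ℤ} (h : d + 1 = d') (q : ℕ) :
    (Fin (n + 1) → k) →ₗ[k] Coh.HH (CohB1.ProjSpace n k) (tw E d) q →ₗ[k]
      Coh.HH (CohB1.ProjSpace n k) (tw E d') q where
  toFun v := mapA k (mulE E v h) q
  map_add' v w := mapA_mulE_add E h q v w
  map_smul' c v := mapA_mulE_smul E h q c v

theorem mulB_apply (E : (CohB1.ProjSpace n k).Modules) {d d' : ℤ} (h : d + 1 = d') (q : ℕ)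
    (v : Fin (n + 1) → k) : mulB E h q v = mapA k (mulE E v h) q := rfl

end Mul

end K126.Nonsing
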