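import Groth.Agent.VBPn.K126.Restr
import Groth.Agent.VBPn.K126.Nonsing
import Groth.Agent.VarietyA.H0Equiv

/-!
# Consequences of the restriction sequence for `mulB`
-/

set_option autoImplicit false
universe u

open CategoryTheory CategoryTheory.Limits AlgebraicGeometry Opposite TopologicalSpace

namespace K126.Hyp

open K697 K697.Lin K697.LinSeq Groth.Agent Groth.Agent.VarietyB Groth.Agent.VarietyA.EulerLES
open Groth.Agent.VarietyB.TensCoh (HasBases)
open K126.Nonsing K126.Restr

/-- Surjectivity on global sections gives surjectivity on `H⁰`. -/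
theorem surjective_zero {k : Type u} [Field k] {X : Scheme.{u}} [X.Over (Spec (CommRingCat.of k))]
    {M N : X.Modules} (φ : M ⟶ N) (h : ∀ t : Γ(N, ⊤), ∃ s : Γ(M, ⊤), φ.app ⊤ s = t) :
    Function.Surjective (mapA k φ 0) := by
  intro y
  obtain ⟨s, hs⟩ := h (VarietyA.H0Equiv.hZeroEquiv N y)
  refine ⟨(VarietyA.H0Equiv.hZeroEquiv M).symm s, ?_⟩
  apply (VarietyA.H0Equiv.hZeroEquiv N).injective
  rw [← hs]
  have h1 := Sheaf.H.equiv₀_naturality (VarietyA.H0Equiv.isTerminalTop X) ((toAbF X).map φ)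
    ((VarietyA.H0Equiv.hZeroEquiv M).symm s)
  refine h1.symm.trans ?_
  exact congrArg (φ.app ⊤) ((VarietyA.H0Equiv.hZeroEquiv M).apply_symm_apply s)

theorem of_surjective_zero {k : Type u} [Field k] {X : Scheme.{u}} [X.Over (Spec (CommRingCat.of k))]
    {M N : X.Modules} (φ : M ⟶ N) (h : Function.Surjective (mapA k φ 0)) (t : Γ(N, ⊤)) :
    ∃ s : Γ(M, ⊤), φ.app ⊤ s = t := by
  obtain ⟨x, hx⟩ := h ((VarietyA.H0Equiv.hZeroEquiv N).symm t)
  refine ⟨VarietyA.H0Equiv.hZeroEquiv M x, ?_⟩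
  have h1 := Sheaf.H.equiv₀_naturality (VarietyA.H0Equiv.isTerminalTop X) ((toAbF X).map φ) x
  refine h1.trans ?_
  refine (congrArg (VarietyA.H0Equiv.hZeroEquiv N) hx).trans ?_
  exact (VarietyA.H0Equiv.hZeroEquiv N).apply_symm_apply t

variable {k : Type u} [Field k] {n m : ℕ}

theorem finrank_ker_of_exact {V W U : Type u} [AddCommGroup V] [Module k V] [AddCommGroup W] [Module k W]
    [AddCommGroup U] [Module k U] (f : V →ₗ[k] W) (g : W →ₗ[k] U) (hf : Function.Injective f)
    (hfg : Function.Exact f g) : Module.finrank k (LinearMap.ker g) = Module.finrank k V := by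
  rw [LinearMap.exact_iff.1 hfg, LinearMap.finrank_range_of_inj hf]

/-- A hyperplane with given equation. -/
theorem exists_A (v : Fin (n + 2) → k) (hv : v ≠ 0) : ∃ A : (Fin (n + 2) → k) →ₗ[k] (Fin (n + 1) → k),
    Function.Surjective A ∧ LinearMap.ker A = Submodule.span k {v} := by
  have h1 : Module.finrank k ((Fin (n + 2) → k) ⧸ Submodule.span k {v}) = n + 1 := by
    have h2 := Submodule.finrank_quotient_add_finrank (Submodule.span k {v})
    rw [finrank_span_singleton hv, Module.finrank_fin_fun] at h2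
    omega
  let e : ((Fin (n + 2) → k) ⧸ Submodule.span k {v}) ≃ₗ[k] (Fin (n + 1) → k) :=
    LinearEquiv.ofFinrankEq _ _ (by rw [h1, Module.finrank_fin_fun])
  refine ⟨e.toLinearMap ∘ₗ Submodule.mkQ _, ?_, ?_⟩
  · exact e.surjective.comp (Submodule.mkQ_surjective _)
  · rw [LinearEquiv.ker_comp, Submodule.ker_mkQ]

variable {A : (Fin (n + 1) → k) →ₗ[k] (Fin (m + 1) → k)} (hA : Function.Surjective A)
  {E : (CohB1.ProjSpace n k).Modules} (hE : HasBases E) {v : Fin (n + 1) → k} (hv : v ≠ 0)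
  (hker : LinearMap.ker A = Submodule.span k {v})

include hker in
theorem A_self : A v = 0 := by
  rw [← LinearMap.mem_ker, hker]
  exact Submodule.mem_span_singleton_self v

include hE hv hker in
/-- `H^{q+1}(E(d)) → H^{q+1}(E(d'))` is injective if `H^q(E(d')) → H^q(E_H(d'))` is surjective. -/
theorem injective_mulB {d d' : ℤ} (h : d + 1 = d') (q : ℕ)
    (hs : Function.Surjective (mapA k (rmap hA hE d') q)) : Function.Injective (mulB E h (q + 1) v) := by
  have hS := shortExact_hypSeq hA hE (A_self hker) hv hker h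
  rw [injective_iff_map_eq_zero]
  intro x hx
  obtain ⟨y, rfl⟩ := (exactA₁ k _ hS q (q + 1) rfl x).1 hx
  obtain ⟨z, rfl⟩ := hs y
  exact (exactA₃ k _ hS q (q + 1) rfl _).2 ⟨z, rfl⟩

include hE hv hker in
/-- `H^q(E(d)) → H^q(E(d'))` is surjective if `H^q(E_H(d')) = 0`. -/
theorem surjective_mulB {d d' : ℤ} (h : d + 1 = d') (q : ℕ)
    (h3 : Subsingleton (Coh.HH (CohB1.ProjSpace m k) (LinSeq.tw (restE A hA E) d') q)) :
    Function.Surjective (mulB E h q v) := by
  have hS := shortExact_hypSeq hA hE (A_self hker) hv hker h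
  have h3' := (subsingleton_push_restE (d' := d') hA hE q).mpr h3
  intro x
  exact (exactA₂ k _ hS q x).1 (h3'.elim _ _)

include hE hv hker in
/-- If `H^q(E(d')) = 0`, the kernel of `H^{q+1}(E(d)) → H^{q+1}(E(d'))` is `H^q(E_H(d'))`. -/
theorem finrank_ker_mulB {d d' : ℤ} (h : d + 1 = d') (q : ℕ)
    (h2 : Subsingleton (Coh.HH (CohB1.ProjSpace n k) (LinSeq.tw E d') q)) :
    Module.finrank k (LinearMap.ker (mulB E h (q + 1) v)) =
      Module.finrank k (Coh.HH (CohB1.ProjSpace m k) (LinSeq.tw (restE A hA E) d') q) := by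
  have hS := shortExact_hypSeq hA hE (A_self hker) hv hker h
  obtain ⟨e⟩ := HHPush.exists_linearEquiv (emb A hA) k (emb_toSpec A hA) _ (isQCoh_tw (hasBases_restE hA hE) d') q
  have hinj : Function.Injective (deltaA k _ hS q (q + 1) rfl) := by
    rw [injective_iff_map_eq_zero]
    intro x hx
    obtain ⟨y, rfl⟩ := (exactA₃ k _ hS q (q + 1) rfl x).1 hx
    have hy : y = 0 := h2.elim y 0
    rw [hy]
    exact map_zero _
  exact (finrank_ker_of_exact (deltaA k _ hS q (q + 1) rfl) (mulB E h (q + 1) v) hinj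
    (exactA₁ k _ hS q (q + 1) rfl)).trans e.finrank_eq

include hE hv hker in
/-- `H^0(E(d')) → H^0(E_H(d'))` on sections: a section with zero restriction is divisible. -/
theorem exists_of_rmap_eq_zero {d d' : ℤ} (h : d + 1 = d') (s : Γ(LinSeq.tw E d', ⊤))
    (hs : (rmap hA hE d').app ⊤ s = 0) : ∃ t : Γ(LinSeq.tw E d, ⊤), (mulE E v h).app ⊤ t = s := by
  have hS := shortExact_hypSeq hA hE (A_self hker) hv hker h
  let x := (VarietyA.H0Equiv.hZeroEquiv (LinSeq.tw E d')).symm s
  have h1 : mapA k (hypSeq hA hE (A_self hker) h).g 0 x = 0 := by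
    apply (VarietyA.H0Equiv.hZeroEquiv _).injective
    rw [map_zero]
    have h2 := Sheaf.H.equiv₀_naturality (VarietyA.H0Equiv.isTerminalTop _)
      ((toAbF _).map (hypSeq hA hE (A_self hker) h).g) x
    refine h2.symm.trans ?_
    refine Eq.trans ?_ hs
    exact congrArg ((rmap hA hE d').app ⊤) ((VarietyA.H0Equiv.hZeroEquiv _).apply_symm_apply s)
  obtain ⟨y, hy⟩ := (exactA₂ k _ hS 0 x).1 h1
  refine ⟨VarietyA.H0Equiv.hZeroEquiv _ y, ?_⟩
  have h3 := Sheaf.H.equiv₀_naturality (VarietyA.H0Equiv.isTerminalTop _)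
    ((toAbF _).map (hypSeq hA hE (A_self hker) h).f) y
  refine h3.trans ?_
  refine (congrArg (VarietyA.H0Equiv.hZeroEquiv _) hy).trans ?_
  exact (VarietyA.H0Equiv.hZeroEquiv _).apply_symm_apply s

end K126.Hyp
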