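import Groth.Agent.VBPn.K698.PlPull
import Groth.Agent.Dcoh.TensRestr
import Groth.Agent.VBPn.K697.LinSeq
import Groth.Agent.VBPn.K699.Scalar
import Groth.Agent.PerfB.TwistDer
import Groth.Agent.VBPn.K699.GMat
import Groth.Agent.VarietyA.H0Equiv
import Groth.Agent.S0844

/-!
# Restriction to a linear subspace: naturality and lifting of sections

* `rmap hA hE d : E(d) ⟶ i_*((i^*E)(d))`, `mul_rmap`.
* `tproj`: the projections of `N(d)` attached to `π : N ⟶ O(a)`, `mul_tproj`.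
* `exists_lift`: sections of `(i^*E)(d)` lift, when `i^*E = O(a₀) ⊕ O(a₁)`, `a₁ + d < 0`, and `E(-a₀)` has a section
  with nonzero restriction.
-/

set_option autoImplicit false
universe u

open CategoryTheory CategoryTheory.Limits AlgebraicGeometry Opposite TopologicalSpace
open scoped TensorProduct

namespace K126.Restr

open K697 K697.Lin K697.LinSeq Groth.Agent Groth.Agent.VarietyB Groth.Agent.VarietyB.TwistMul Groth.Agent.Sga67.Sec
open Groth.Agent.VarietyB.TensCoh (HasBases)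

theorem tensMap_comp {X : Scheme.{u}} (E : X.Modules) {F G H : X.Modules} (φ : F ⟶ G) (ψ : G ⟶ H) :
    RestrSeq.tensMap E (φ ≫ ψ) = RestrSeq.tensMap E φ ≫ RestrSeq.tensMap E ψ := Functor.map_comp _ _ _

/-- Naturality of the projection formula. -/
theorem projMor_naturality {X Y : Scheme.{u}} (f : X ⟶ Y) (E : Y.Modules) {G G' : X.Modules} (φ : G ⟶ G') :
    RestrSeq.tensMap E ((Scheme.Modules.pushforward f).map φ) ≫ ProjForm.projMor f E G' =
      ProjForm.projMor f E G ≫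
        (Scheme.Modules.pushforward f).map (RestrSeq.tensMap ((Scheme.Modules.pullback f).obj E) φ) := by
  apply tensor_hom_ext
  intro x U hx
  refine ⟨U, le_rfl, hx, fun e g => ?_⟩
  have h1 := Dcoh.TensRestr.tensorBi_obj_map_tmul E ((Scheme.Modules.pushforward f).map φ) e g
  have h2 := ProjForm.projMor_tmul f E G' e (φ.app (f ⁻¹ᵁ U) g)
  have h3 := ProjForm.projMor_tmul f E G e g
  have h4 := Dcoh.TensRestr.tensorBi_obj_map_tmul ((Scheme.Modules.pullback f).obj E) φ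
    (Groth.Agent.Fdesc.LocGen.pullSec f e) (show Γ(G, f ⁻¹ᵁ U) from g)
  refine ((congrArg ((ProjForm.projMor f E G').app U) h1).trans h2).trans ?_
  exact (h4.symm).trans (congrArg ((RestrSeq.tensMap ((Scheme.Modules.pullback f).obj E) φ).app (f ⁻¹ᵁ U)) h3.symm)

variable {k : Type u} [Field k] {n m : ℕ}

section R

variable {A : (Fin (n + 1) → k) →ₗ[k] (Fin (m + 1) → k)} (hA : Function.Surjective A)
  {E : (CohB1.ProjSpace n k).Modules} (hE : HasBases E)

/-- `O(d) ⟶ i_* O(d)` -/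
noncomputable def pushT (d : ℤ) : Twist.twistProjSpace n k d ⟶
    (Scheme.Modules.pushforward (emb A hA)).obj (Twist.twistProjSpace m k d) :=
  Groth.Agent.Ega3A.TwistBC.pushHom (gr A) (Groth.Agent.Sga5.ProjSurj.irrelevant_le_map (degSurj hA)) d

/-- Multiplication by a form. -/
noncomputable def mulM {e : ℕ} (g : CohB1.polyGrading n k e) {d d' : ℤ} (h : d + e = d') :
    Twist.twistProjSpace n k d ⟶ Twist.twistProjSpace n k d' := mulMap g h

theorem mulM_pushT {e : ℕ} (g : CohB1.polyGrading n k e) {d d' : ℤ} (h : d + e = d') :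
    mulM g h ≫ pushT hA d' = pushT hA d ≫
      (Scheme.Modules.pushforward (emb A hA)).map (mulM (K698.Pl.mapForm (gr A) g) h) :=
  K698.Pl.mulMap_pushHom (gr A) (Groth.Agent.Sga5.ProjSurj.irrelevant_le_map (degSurj hA)) g h

/-- `E(d) ⟶ i_*((i^*E)(d))` -/
noncomputable def rmap (d : ℤ) : tw E d ⟶ (Scheme.Modules.pushforward (emb A hA)).obj (tw (restE A hA E) d) :=
  RestrSeq.tensMap E (pushT hA d) ≫ (ProjForm.projIso (emb A hA) hE (Twist.twistProjSpace m k d)).hom

theorem hypSeq_g {s : Fin (n + 1) → k} (hs : A s = 0) {d d' : ℤ} (h : d + 1 = d') :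
    (hypSeq hA hE hs h).g = rmap hA hE d' := rfl

theorem mul_rmap {e : ℕ} (g : CohB1.polyGrading n k e) {d d' : ℤ} (h : d + e = d') :
    RestrSeq.tensMap E (mulM g h) ≫ rmap hA hE d' =
      rmap hA hE d ≫ (Scheme.Modules.pushforward (emb A hA)).map
        (RestrSeq.tensMap (restE A hA E) (mulM (K698.Pl.mapForm (gr A) g) h)) := by
  have h1 := mulM_pushT hA g h
  have h2 : RestrSeq.tensMap E ((Scheme.Modules.pushforward (emb A hA)).map (mulM (K698.Pl.mapForm (gr A) g) h)) ≫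
      (ProjForm.projIso (emb A hA) hE (Twist.twistProjSpace m k d')).hom =
      (ProjForm.projIso (emb A hA) hE (Twist.twistProjSpace m k d)).hom ≫
        (Scheme.Modules.pushforward (emb A hA)).map
          (RestrSeq.tensMap (restE A hA E) (mulM (K698.Pl.mapForm (gr A) g) h)) :=
    projMor_naturality (emb A hA) E (mulM (K698.Pl.mapForm (gr A) g) h)
  have h3 : RestrSeq.tensMap E (mulM g h) ≫ RestrSeq.tensMap E (pushT hA d') =
    RestrSeq.tensMap E (pushT hA d) ≫
      RestrSeq.tensMap E ((Scheme.Modules.pushforward (emb A hA)).map (mulM (K698.Pl.mapForm (gr A) g) h)) := by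
    rw [← tensMap_comp, ← tensMap_comp, h1]
  unfold rmap
  rw [← Category.assoc, h3, Category.assoc, h2, Category.assoc]

end R

section P

open Groth.Agent.PerfB.TwistDer

variable {N : (CohB1.ProjSpace n k).Modules}

/-- `N(d) ⟶ N'(d)` -/
noncomputable def tw1 {N N' : (CohB1.ProjSpace n k).Modules} (π : N ⟶ N') (d : ℤ) :
    LinSeq.tw N d ⟶ LinSeq.tw N' d := (twM n k d).map π

theorem tensMap_tw1 {N N' : (CohB1.ProjSpace n k).Modules} (π : N ⟶ N') {d d' : ℤ}
    (φ : Twist.twistProjSpace n k d ⟶ Twist.twistProjSpace n k d') :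
    RestrSeq.tensMap N φ ≫ tw1 π d' = tw1 π d ≫ RestrSeq.tensMap N' φ :=
  (DCoh.tensorBi.map π).naturality φ

/-- `O(a)(d) ≅ O(c)` -/
noncomputable def twMulI (a d c : ℤ) (h : a + d = c) :
    LinSeq.tw (Twist.twistProjSpace n k a) d ≅ Twist.twistProjSpace n k c := twMul n k a d c h

theorem mul_twMul {a d d' c c' : ℤ} {e : ℕ} (g : CohB1.polyGrading n k e) (h : d + e = d')
    (hc : a + d = c) (hc' : a + d' = c') (hcc : c + e = c') :
    RestrSeq.tensMap (Twist.twistProjSpace n k a) (mulM g h) ≫ (twMulI a d' c' hc').hom =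
      (twMulI a d c hc).hom ≫ mulM g hcc := by
  apply tensor_hom_ext
  intro x U hx
  refine ⟨U, le_rfl, hx, fun s t => ?_⟩
  have h1 := Dcoh.TensRestr.tensorBi_obj_map_tmul (Twist.twistProjSpace n k a) (mulM g h) s t
  have h2 := K699.TwHom.mulHom_tmul (R := k) (n := n) hc' s ((mulM g h).app U t)
  have h3 := K699.TwHom.mulHom_tmul (R := k) (n := n) hc s t
  refine ((congrArg ((twMulI a d' c' hc').hom.app U) h1).trans h2).trans ?_
  refine Eq.trans ?_ (congrArg ((mulM g hcc).app U) h3.symm)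
  refine Divis.ProjPic.evT_ext fun y hy => ?_
  refine (K699.TwHom.evT_mulLin hc' s ((mulM g h).app U t) y hy).trans ?_
  refine Eq.trans ?_ (K699.TwHom.evT_mulMap g hcc _ y hy).symm
  have h5 : Divis.ProjPic.evT ((mulM g h).app U t) y hy = K699.TwHom.al y g.1 * Divis.ProjPic.evT t y hy :=
    K699.TwHom.evT_mulMap g h t y hy
  have h6 := K699.TwHom.evT_mulLin (R := k) (n := n) hc s t y hy
  refine (congrArg (Divis.ProjPic.evT s y hy * ·) h5).trans (Eq.trans ?_ (congrArg (K699.TwHom.al y g.1 * ·) h6).symm)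
  exact mul_left_comm _ _ _

/-- The projection `N(d) ⟶ O(a + d)` attached to `π : N ⟶ O(a)`. -/
noncomputable def tproj {a : ℤ} (π : N ⟶ Twist.twistProjSpace n k a) {d c : ℤ} (h : a + d = c) :
    LinSeq.tw N d ⟶ Twist.twistProjSpace n k c := tw1 π d ≫ (twMulI a d c h).hom

theorem mul_tproj {a : ℤ} (π : N ⟶ Twist.twistProjSpace n k a) {d d' c c' : ℤ} {e : ℕ}
    (g : CohB1.polyGrading n k e) (h : d + e = d') (hc : a + d = c) (hc' : a + d' = c') (hcc : c + e = c') :
    RestrSeq.tensMap N (mulM g h) ≫ tproj π hc' = tproj π hc ≫ mulM g hcc := by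
  unfold tproj
  rw [← Category.assoc, Category.assoc _ _ (mulM g hcc), ← mul_twMul g h hc hc' hcc, tensMap_tw1, Category.assoc]

attribute [local instance] CategoryTheory.Limits.HasFiniteBiproducts.of_hasFiniteProducts

/-- The projections of `N ≅ ∐ O(a j)`. -/
noncomputable def pr {ι : Type} [Finite ι] {a : ι → ℤ} (e : N ≅ ∐ fun j => Twist.twistProjSpace n k (a j)) (j : ι) :
    N ⟶ Twist.twistProjSpace n k (a j) :=
  e.hom ≫ (biproduct.isoCoproduct _).inv ≫ biproduct.π (fun j => Twist.twistProjSpace n k (a j)) j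

/-- The inclusions of `N ≅ ∐ O(a j)`. -/
noncomputable def inc {ι : Type} [Finite ι] {a : ι → ℤ} (e : N ≅ ∐ fun j => Twist.twistProjSpace n k (a j)) (j : ι) :
    Twist.twistProjSpace n k (a j) ⟶ N :=
  biproduct.ι (fun j => Twist.twistProjSpace n k (a j)) j ≫ (biproduct.isoCoproduct _).hom ≫ e.inv

theorem sum_pr_inc {ι : Type} [Fintype ι] {a : ι → ℤ} (e : N ≅ ∐ fun j => Twist.twistProjSpace n k (a j)) :
    ∑ j, pr e j ≫ inc e j = 𝟙 N := by
  have h1 : ∀ j, pr e j ≫ inc e j = (e.hom ≫ (biproduct.isoCoproduct _).inv) ≫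
      (biproduct.π (fun j => Twist.twistProjSpace n k (a j)) j ≫
        biproduct.ι (fun j => Twist.twistProjSpace n k (a j)) j) ≫ (biproduct.isoCoproduct _).hom ≫ e.inv := by
    intro j
    simp only [pr, inc, Category.assoc]
  simp only [h1]
  rw [← Preadditive.comp_sum, ← Preadditive.sum_comp, biproduct.total, Category.id_comp, Category.assoc,
    Iso.inv_hom_id_assoc, Iso.hom_inv_id]

/-- A section of `N(d)` with vanishing projections vanishes. -/
theorem eq_zero_of_tproj {ι : Type} [Fintype ι] {a : ι → ℤ} (e : N ≅ ∐ fun j => Twist.twistProjSpace n k (a j))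
    {d : ℤ} (z : Γ(LinSeq.tw N d, (⊤ : (CohB1.ProjSpace n k).Opens)))
    (hz : ∀ j, ∃ (c : ℤ) (hc : a j + d = c), (tproj (pr e j) hc).app ⊤ z = 0) : z = 0 := by
  have hadd : (twM n k d).Additive := (twMEquiv n k d).functor.additive_of_preserves_binary_products
  have h1 : ∀ j, appS (tw1 (pr e j) d) ⊤ z = 0 := by
    intro j
    obtain ⟨c, hc, hz⟩ := hz j
    have h3 : appS (tproj (pr e j) hc) ⊤ z = 0 := hz
    have h2 : appS (twMulI (a j) d c hc).inv ⊤ (appS (tproj (pr e j) hc) ⊤ z) = 0 := by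
      rw [h3]
      exact map_zero _
    have h5 : tproj (pr e j) hc ≫ (twMulI (a j) d c hc).inv = tw1 (pr e j) d := by
      unfold tproj
      rw [Category.assoc, Iso.hom_inv_id, Category.comp_id]
    refine Eq.trans ?_ h2
    rw [← h5]
    exact appS_comp _ _ _ _
  have h6 : ∑ j, tw1 (pr e j) d ≫ tw1 (inc e j) d = 𝟙 (LinSeq.tw N d) := by
    have h7 := congrArg (twM n k d).map (sum_pr_inc e)
    rw [Functor.map_sum, CategoryTheory.Functor.map_id] at h7
    refine Eq.trans ?_ h7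
    exact Finset.sum_congr rfl fun j _ => ((twM n k d).map_comp _ _).symm
  have h4 : appS (𝟙 (LinSeq.tw N d)) ⊤ z = z := appS_id _ _ _
  refine h4.symm.trans ?_
  rw [← h6]
  refine (K699.GMat.appS_sum _ _ _ _).trans ?_
  refine Finset.sum_eq_zero fun j _ => ?_
  refine (appS_comp _ _ _ _).trans ?_
  rw [h1]
  exact map_zero _

/-- `Γ(P^m, O(b)) = 0` for `b < 0`. -/
theorem sections_neg {b : ℤ} (hb : b < 0) (z : Γ(Twist.twistProjSpace n k b, (⊤ : (CohB1.ProjSpace n k).Opens)))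
    (hn : 1 ≤ n) : z = 0 := by
  have h1 : Subsingleton (Coh.HH (CohB1.ProjSpace n k) (Twist.twistProjSpace n k b) 0) :=
    S0844.result k n b 0 (by omega) (by omega)
  have h2 := (VarietyA.H0Equiv.hZeroEquiv (Twist.twistProjSpace n k b)).toEquiv.subsingleton_congr.mp h1
  exact h2.elim _ _

end P

section Lift

variable {A : (Fin (n + 1) → k) →ₗ[k] (Fin (m + 1) → k)} (hA : Function.Surjective A)
  {E : (CohB1.ProjSpace n k).Modules} (hE : HasBases E) {a : Fin 2 → ℤ}
  (e : restE A hA E ≅ ∐ fun j => Twist.twistProjSpace m k (a j))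

include e in
/-- Lifting of sections of `(i^*E)(d)`, `i^*E = O(a₀) ⊕ O(a₁)`, `a₁ + d < 0`. -/
theorem exists_lift (hm : 1 ≤ m) {d : ℤ} {l : ℕ} (hl : -(a 0) + l = d) (hneg : a 1 + d < 0)
    (s : Γ(LinSeq.tw E (-(a 0)), (⊤ : (CohB1.ProjSpace n k).Opens))) (hs : (rmap hA hE (-(a 0))).app ⊤ s ≠ 0)
    (t : Γ(((Scheme.Modules.pushforward (emb A hA)).obj (LinSeq.tw (restE A hA E) d)),
      (⊤ : (CohB1.ProjSpace n k).Opens))) :
    ∃ u : Γ(LinSeq.tw E d, (⊤ : (CohB1.ProjSpace n k).Opens)), (rmap hA hE d).app ⊤ u = t := by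
  -- the restriction of `s`
  let sL : Γ(LinSeq.tw (restE A hA E) (-(a 0)), (⊤ : (CohB1.ProjSpace m k).Opens)) :=
    (rmap hA hE (-(a 0))).app ⊤ s
  let tL : Γ(LinSeq.tw (restE A hA E) d, (⊤ : (CohB1.ProjSpace m k).Opens)) := t
  have hc0 : a 0 + -(a 0) = ((0 : ℕ) : ℤ) := by simp
  have hcd : a 0 + d = (l : ℤ) := by omega
  have hc1 : a 1 + -(a 0) = a 1 - a 0 := by ring
  obtain ⟨c, hc⟩ := K699.TwHom.exists_poly (n := m) (R := k) (d := 0) ((tproj (pr e 0) hc0).app ⊤ sL)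
  obtain ⟨τ, hτ⟩ := K699.TwHom.exists_poly (n := m) (R := k) (d := l) ((tproj (pr e 0) hcd).app ⊤ tL)
  obtain ⟨c0, hc0'⟩ : ∃ c0 : k, c.1 = MvPolynomial.C c0 :=
    ⟨_, MvPolynomial.totalDegree_eq_zero_iff_eq_C.mp
      (le_antisymm (MvPolynomial.IsHomogeneous.totalDegree_le c.2) (Nat.zero_le _))⟩
  have hz1 : ∀ (b c : ℤ) (hb : a 1 + b = c) (_ : c < 0)
      (z : Γ(LinSeq.tw (restE A hA E) b, (⊤ : (CohB1.ProjSpace m k).Opens))),
      (tproj (pr e 1) hb).app ⊤ z = 0 := fun b c hb hc z => sections_neg hc _ hm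
  have hc0ne : c0 ≠ 0 := by
    rintro rfl
    apply hs
    refine eq_zero_of_tproj e sL fun j => ?_
    fin_cases j
    · refine ⟨_, hc0, Divis.ProjPic.evT_ext fun x hx => ?_⟩
      refine (hc x hx).trans ?_
      rw [hc0', MvPolynomial.C_0, map_zero]
      rfl
    · exact ⟨_, rfl, hz1 _ _ rfl (by omega) _⟩
  obtain ⟨g, hg, hgA⟩ := degSurj hA l (MvPolynomial.C c0⁻¹ * τ.1) (by
    have h1 := (MvPolynomial.isHomogeneous_C (Fin (m + 1)) c0⁻¹).mul τ.2
    rw [zero_add] at h1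
    exact h1)
  refine ⟨(RestrSeq.tensMap E (mulM (⟨g, hg⟩ : CohB1.polyGrading n k l) hl)).app ⊤ s, ?_⟩
  have h1 := congrArg (fun φ => φ.app (⊤ : (CohB1.ProjSpace n k).Opens) s)
    (mul_rmap hA hE (⟨g, hg⟩ : CohB1.polyGrading n k l) hl)
  refine h1.trans ?_
  let φ := RestrSeq.tensMap (restE A hA E)
    (mulM (K698.Pl.mapForm (gr A) (⟨g, hg⟩ : CohB1.polyGrading n k l)) hl)
  change φ.app (⊤ : (CohB1.ProjSpace m k).Opens) sL = tL
  rw [← sub_eq_zero]
  refine eq_zero_of_tproj e _ fun j => ?_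
  fin_cases j
  · refine ⟨_, hcd, ?_⟩
    have h2 := congrArg (fun ψ => ψ.app (⊤ : (CohB1.ProjSpace m k).Opens) sL)
      (mul_tproj (pr e 0) (K698.Pl.mapForm (gr A) (⟨g, hg⟩ : CohB1.polyGrading n k l)) hl hc0 hcd (by simp))
    have h3 : (tproj (pr e 0) hcd).app ⊤ (φ.app ⊤ sL - tL) =
        (tproj (pr e 0) hcd).app ⊤ (φ.app ⊤ sL) - (tproj (pr e 0) hcd).app ⊤ tL := map_sub _ _ _
    refine h3.trans ?_
    rw [sub_eq_zero]
    refine h2.trans ?_
    refine Divis.ProjPic.evT_ext fun x hx => ?_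
    refine Eq.trans ?_ (hτ x hx).symm
    have h4 : Divis.ProjPic.evT ((tproj (pr e 0) hc0).app ⊤ sL) x hx = K699.TwHom.al x c.1 := hc x hx
    refine (K699.TwHom.evT_mulMap _ _ _ x hx).trans ?_
    refine (congrArg (K699.TwHom.al x (K698.Pl.mapForm (gr A) (⟨g, hg⟩ : CohB1.polyGrading n k l)).1 * ·) h4).trans ?_
    rw [hc0', ← map_mul]
    congr 1
    change gr A g * _ = _
    rw [hgA, mul_assoc, mul_comm τ.1, ← mul_assoc, ← MvPolynomial.C_mul, inv_mul_cancel₀ hc0ne, MvPolynomial.C_1,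
      one_mul]
  · exact ⟨_, rfl, hz1 _ _ rfl hneg _⟩

end Lift

end K126.Restr
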