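import Groth.Agent.VBPn.K126.Hyp
import Groth.Agent.VBPn.K697.Lift
import Groth.Agent.VBPn.K697.IsoCrit
import Groth.Agent.VBPn.K697.H0Neg
import Groth.Agent.VBPn.K698.H0
import Groth.Agent.S0002
import Groth.Agent.Ega3B.ProjProper

/-!
# Uniform bundles on the plane: the cohomological splitting criterion

* `Unif E a`: `E` is locally free, `E_L ≅ O(a₀) ⊕ O(a₁)` for all lines `L`.
* `Unif.crit`: vanishing of `H^1` from injectivity below and surjectivity above some degree.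
* `Unif.split_of_eq`: `a₀ = a₁ ⇒ E` splits; `Unif.split_of_section`: `a₁ < a₀` and `Hom(O(a₀), E) ≠ 0 ⇒ E` splits.
-/

set_option autoImplicit false
universe u

open CategoryTheory CategoryTheory.Limits AlgebraicGeometry Opposite TopologicalSpace

namespace K126.Uniform

open K697 K697.Lin K697.LinSeq Groth.Agent Groth.Agent.VarietyB Groth.Agent.VarietyA.EulerLES
open Groth.Agent.VarietyB.TensCoh (HasBases)
open K126.Nonsing K126.Restr K126.Hyp K697.IsoCrit K697.Lift K697.NegVan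

variable {k : Type u} [Field k]

/-- A bundle on the plane with constant splitting type. -/
structure Unif (E : (CohB1.ProjSpace 2 k).Modules) (a : Fin 2 → ℤ) : Prop where
  lf : FlatMod.IsFinLocFree E
  spl : ∀ (A : (Fin (2 + 1) → k) →ₗ[k] (Fin (1 + 1) → k)) (hA : Function.Surjective A),
    Nonempty (restE A hA E ≅ ∐ fun j => Twist.twistProjSpace 1 k (a j))
  le : a 1 ≤ a 0

/-- Finiteness of cohomology. -/
theorem finite_HH {E : (CohB1.ProjSpace 2 k).Modules} (hE : FlatMod.IsFinLocFree E) (d : ℤ) (q : ℕ) :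
    Module.Finite k (Coh.HH (CohB1.ProjSpace 2 k) (LinSeq.tw E d) q) := by
  have : IsProper (CohB1.ProjSpace 2 k ↘ Spec (CommRingCat.of k)) :=
    Groth.Agent.Ega3B.ProjProper.isProper_toSpec 2 k
  exact Groth.Agent.S0002.result k (CohB1.ProjSpace 2 k) _ (Groth.Agent.VarietyB.TensCoh.isCoh_tensorMod (hasBases hE)
    (isCoh_of_isFinLocFree (Groth.Agent.Sga2.PnCoprod.isFinLocFree_tw 2 k d))) q

theorem exists_hyp (v : Fin (2 + 1) → k) (hv : v ≠ 0) : ∃ A : (Fin (2 + 1) → k) →ₗ[k] (Fin (1 + 1) → k),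
    Function.Surjective A ∧ LinearMap.ker A = Submodule.span k {v} := exists_A (n := 1) v hv

theorem e0_ne : (Pi.single 0 1 : Fin (2 + 1) → k) ≠ 0 := by
  intro h
  exact one_ne_zero (congrFun h 0 : _)

namespace Unif

variable {E : (CohB1.ProjSpace 2 k).Modules} {a : Fin 2 → ℤ} (h : Unif E a)

include h

theorem a_le (j : Fin 2) : a j ≤ a 0 := by
  fin_cases j
  · exact le_rfl
  · exact h.le

theorem le_a (j : Fin 2) : a 1 ≤ a j := by
  fin_cases j
  · exact h.le
  · exact le_rfl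

theorem h0_line (A : (Fin (2 + 1) → k) →ₗ[k] (Fin (1 + 1) → k)) (hA : Function.Surjective A) (d : ℤ)
    (hd : a 0 + d < 0) : Subsingleton (Coh.HH (CohB1.ProjSpace 1 k) (LinSeq.tw (restE A hA E) d) 0) := by
  obtain ⟨e⟩ := h.spl A hA
  exact Groth.Agent.Fga.HShift.subsingleton_of_iso (twIso e d).symm 0 (subsingleton_HH_sum _ d 0 fun j =>
    Groth.Agent.S0844.result k 1 (a j + d) 0 (by have := h.a_le j; omega) (by omega))

theorem h1_line (A : (Fin (2 + 1) → k) →ₗ[k] (Fin (1 + 1) → k)) (hA : Function.Surjective A) (d : ℤ)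
    (hd : -1 ≤ a 1 + d) : Subsingleton (Coh.HH (CohB1.ProjSpace 1 k) (LinSeq.tw (restE A hA E) d) 1) := by
  obtain ⟨e⟩ := h.spl A hA
  exact Groth.Agent.Fga.HShift.subsingleton_of_iso (twIso e d).symm 1 (subsingleton_HH_sum _ d 1 fun j =>
    Groth.Agent.S0844.result k 1 (a j + d) 1 (by omega) (by have := h.le_a j; omega))

theorem h0E (d : ℤ) (hd : a 0 + d < 0) : Subsingleton (Coh.HH (CohB1.ProjSpace 2 k) (LinSeq.tw E d) 0) := by
  obtain ⟨A, hA, -⟩ := exists_hyp (k := k) _ e0_ne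
  exact K697.H0Neg.h0_of_linear le_rfl d a (fun j => by have := h.a_le j; omega) 2 A hA E h.lf (h.spl A hA) d le_rfl

theorem inj {d d' : ℤ} (hd : d + 1 = d') (hd' : a 0 + d' < 0) (v : Fin (2 + 1) → k) (hv : v ≠ 0) :
    Function.Injective (mulB E hd 1 v) := by
  obtain ⟨A, hA, hker⟩ := exists_hyp v hv
  refine injective_mulB hA (hasBases h.lf) hv hker hd 0 ?_
  have h3 := (subsingleton_push_restE (d' := d') hA (hasBases h.lf) 0).mpr (h.h0_line A hA d' hd')
  intro x
  exact ⟨0, h3.elim _ _⟩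

theorem surj {d d' : ℤ} (hd : d + 1 = d') (hd' : -1 ≤ a 1 + d') (v : Fin (2 + 1) → k) (hv : v ≠ 0) :
    Function.Surjective (mulB E hd 1 v) := by
  obtain ⟨A, hA, hker⟩ := exists_hyp v hv
  exact surjective_mulB hA (hasBases h.lf) hv hker hd 1 (h.h1_line A hA d' hd')

omit h in
theorem crit [IsAlgClosed k] (hE : FlatMod.IsFinLocFree E) (d₀ : ℤ)
    (hi : ∀ (d d' : ℤ) (hd : d + 1 = d'), d' ≤ d₀ → ∀ v, v ≠ 0 → Function.Injective (mulB E hd 1 v))
    (hs : ∀ (d d' : ℤ) (hd : d + 1 = d'), d₀ ≤ d' → ∀ v, v ≠ 0 → Function.Surjective (mulB E hd 1 v)) (d : ℤ) :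
    Subsingleton (Coh.HH (CohB1.ProjSpace 2 k) (LinSeq.tw E d) 1) := by
  have hfin := finite_HH hE
  have hd₀ : d₀ - 1 + 1 = d₀ := by ring
  have h1 : Subsingleton (Coh.HH (CohB1.ProjSpace 2 k) (LinSeq.tw E (d₀ - 1)) 1) := by
    by_contra hcon
    rw [not_subsingleton_iff_nontrivial] at hcon
    have := hfin (d₀ - 1) 1
    have := hfin d₀ 1
    have h2 := le_of_injective (mulB E hd₀ 1) (hi _ _ hd₀ le_rfl)
    have h3 := (LinearEquiv.ofBijective (mulB E hd₀ 1 (Pi.single 0 1))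
      ⟨hi _ _ hd₀ le_rfl _ e0_ne, hs _ _ hd₀ le_rfl _ e0_ne⟩).finrank_eq
    omega
  have h2 : Subsingleton (Coh.HH (CohB1.ProjSpace 2 k) (LinSeq.tw E d₀) 1) :=
    (hs _ _ hd₀ le_rfl _ e0_ne).subsingleton
  rcases le_total d d₀ with hd | hd
  · induction d, hd using Int.leInductionDown with
    | base => exact h2
    | pred d hd ih =>
      have hd' : d - 1 + 1 = d := by ring
      exact (hi _ _ hd' hd _ e0_ne).subsingleton
  · induction d, hd using Int.leInduction with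
    | base => exact h2
    | succ d hd ih => exact (hs _ _ rfl (by omega) _ e0_ne).subsingleton

theorem split [IsAlgClosed k] (h1 : ∀ d, Subsingleton (Coh.HH (CohB1.ProjSpace 2 k) (LinSeq.tw E d) 1)) :
    Nonempty (E ≅ ∐ fun j => Twist.twistProjSpace 2 k (a j)) := by
  obtain ⟨A, hA, hker⟩ := exists_hyp (k := k) _ e0_ne
  exact split_of_restrict hA (A_self hker) e0_ne hker le_rfl h.lf h1 a (h.spl A hA)

theorem split_of_eq [IsAlgClosed k] (he : a 0 = a 1) : Nonempty (E ≅ ∐ fun j => Twist.twistProjSpace 2 k (a j)) :=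
  h.split (crit h.lf (-(a 1) - 1) (fun d d' hd hd' v hv => h.inj hd (by omega) v hv)
    (fun d d' hd hd' v hv => h.surj hd (by omega) v hv))

theorem split_of_section [IsAlgClosed k]
    (hsec : ¬ Subsingleton (Coh.HH (CohB1.ProjSpace 2 k) (LinSeq.tw E (-(a 0))) 0)) :
    Nonempty (E ≅ ∐ fun j => Twist.twistProjSpace 2 k (a j)) := by
  obtain ⟨s, hs⟩ : ∃ s : Γ(LinSeq.tw E (-(a 0)), (⊤ : (CohB1.ProjSpace 2 k).Opens)), s ≠ 0 := by
    by_contra hcon
    push Not at hcon
    apply hsec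
    exact (VarietyA.H0Equiv.hZeroEquiv _).toEquiv.subsingleton_congr.mpr
      ⟨fun x y => (hcon x).trans (hcon y).symm⟩
  refine h.split (crit h.lf (-(a 1) - 1) (fun d d' hd hd' v hv => ?_)
    (fun d d' hd hd' v hv => h.surj hd (by omega) v hv))
  rcases lt_or_ge (a 0 + d') 0 with hneg | hpos
  · exact h.inj hd hneg v hv
  · obtain ⟨A, hA, hker⟩ := exists_hyp v hv
    obtain ⟨l, hl⟩ : ∃ l : ℕ, -(a 0) + l = d' := ⟨(a 0 + d').toNat, by omega⟩
    have hrs : (rmap hA (hasBases h.lf) (-(a 0))).app ⊤ s ≠ 0 := by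
      intro h0
      obtain ⟨t, ht⟩ := exists_of_rmap_eq_zero hA (hasBases h.lf) hv hker
        (show -(a 0) - 1 + 1 = -(a 0) by ring) s h0
      have h2 := h.h0E (-(a 0) - 1) (by omega)
      have h3 := (VarietyA.H0Equiv.hZeroEquiv (LinSeq.tw E (-(a 0) - 1))).toEquiv.subsingleton_congr.mp h2
      apply hs
      rw [← ht, h3.elim t 0]
      exact map_zero _
    obtain ⟨e⟩ := h.spl A hA
    exact injective_mulB hA (hasBases h.lf) hv hker hd 0 (surjective_zero _ fun t =>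
      exists_lift hA (hasBases h.lf) e le_rfl hl (by omega) s hrs t)

end Unif

end K126.Uniform
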